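import Cfsg.Agent.Omega.NO1.Alpha.Defs

/-!
# N1-ONE, THEOREM LINES (helper806, #18965): the hypotheses, and the interface between (0)-(4) and (5)-(8)

`V` is a vector space over the finite field `K` of characteristic 2, `Y` acts semilinearly and faithfully, `UU` is one
class of members `B` (`Alpha.Mem`, `q = |K|`): `F_B = FX V B = C_V(B)`, `E_B = EX V B`.

* `Hyp K V Y UU` : K-linear members, `|V / E_B| = |K| ≥ 4`, no offender, (UPE), (BAD), the intersection of the `E_B` is 0;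
* `Bad B C` : `E_B ≠ E_C`, `F_C ∩ E_B ≠ 0`;
* `HH I` : `{y : y = 1 on I and on V / I}`;
* `LL UU` : the line groups `A = HH (E_B ∩ E_C)`, `Bad B C`;
* `CM V A = [V, A]`;
* `Geo a UU` : the output of (0)-(4) (points = members, lines = elements of `LL UU`, incidence = inclusion).
-/

set_option autoImplicit false
set_option linter.unusedSectionVars false

namespace Cfsg.Agent.Omega.NO1.Lines

open Subgroup
open Cfsg.Agent.Omega.NO1.HE (dl dl_apply dl_one dl_eq_zero dl_comm dl_mul dl_self add_eq_zero' mem_conj)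
open Cfsg.Agent.Omega.NO1.Alpha (FX EX Mem mem_FX mem_EX smul_mem_FX smul_mem_EX dl_conj conj_eq_iff FX_anti)
open scoped Pointwise

universe u

section defs

variable {Y : Type u} [Group Y] (V : Type u) [AddCommGroup V] [DistribMulAction Y V]

/-- `[V, A]` -/
def CM (A : Subgroup Y) : AddSubgroup V := AddSubgroup.closure {x | ∃ s ∈ A, ∃ v : V, x = dl s v}

/-- the elements which are trivial on `I` and on `V / I` -/
def HH (h2 : ∀ v : V, v + v = 0) (I : AddSubgroup V) : Subgroup Y where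
  carrier := {y | (∀ x ∈ I, y • x = x) ∧ ∀ v : V, dl y v ∈ I}
  one_mem' := ⟨fun x _ => one_smul _ x, fun v => by rw [dl_one h2]; exact I.zero_mem⟩
  mul_mem' := by
    rintro y z ⟨hy, hy'⟩ ⟨hz, hz'⟩
    refine ⟨fun x hx => by rw [mul_smul, hz x hx, hy x hx], fun v => ?_⟩
    rw [dl_mul h2]
    refine I.add_mem (I.add_mem (hy' v) (hz' v)) (hy' _)
  inv_mem' := by
    rintro y ⟨hy, hy'⟩
    refine ⟨fun x hx => by rw [inv_smul_eq_iff, hy x hx], fun v => ?_⟩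
    have h1 := hy' (y⁻¹ • v)
    rw [dl_apply, smul_inv_smul, add_comm] at h1
    exact h1

variable {V}

theorem mem_HH (h2 : ∀ v : V, v + v = 0) {I : AddSubgroup V} {y : Y} :
    y ∈ HH V h2 I ↔ (∀ x ∈ I, y • x = x) ∧ ∀ v : V, dl y v ∈ I := Iff.rfl

variable (V)

/-- different `E`-points, `C` is not opposite `B` -/
def Bad (B C : Subgroup Y) : Prop := EX V B ≠ EX V C ∧ ∃ x ∈ FX V C, x ≠ 0 ∧ x ∈ EX V B

/-- the line groups -/
def LL (h2 : ∀ v : V, v + v = 0) (UU : Set (Subgroup Y)) : Set (Subgroup Y) :=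
  {A | ∃ B ∈ UU, ∃ C ∈ UU, Bad V B C ∧ A = HH V h2 (EX V B ⊓ EX V C)}

end defs

/-- **The hypotheses of THEOREM LINES** (without the Sylow part, see `Par.lean`). -/
structure Hyp (K V Y : Type u) [Field K] [AddCommGroup V] [Module K V] [Group Y] [DistribMulAction Y V]
    (UU : Set (Subgroup Y)) : Prop where
  finK : Finite K
  finV : Finite V
  finY : Finite Y
  char : CharP K 2
  two : ∀ v : V, v + v = 0
  four : 4 ≤ Nat.card K
  faith : ∀ y : Y, (∀ v : V, y • v = v) → y = 1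
  /-- `Y` normalises `K` -/
  semi : ∀ y : Y, ∃ σ : K ≃+* K, ∀ (k : K) (v : V), y • (k • v) = σ k • (y • v)
  /-- members are `K`-linear -/
  lin : ∀ B ∈ UU, ∀ b ∈ B, ∀ (k : K) (v : V), b • (k • v) = k • (b • v)
  mem : ∀ B ∈ UU, Mem V (Nat.card K) B
  conj : ∀ B ∈ UU, ∀ y : Y, MulAut.conj y • B ∈ UU
  cls : ∀ B ∈ UU, ∀ C ∈ UU, ∃ y : Y, MulAut.conj y • B = C
  /-- no offender -/
  noff : ∀ A : Subgroup Y, (∀ a ∈ A, ∀ b ∈ A, a * b = b * a) → (∀ a ∈ A, a * a = 1) → A ≠ ⊥ →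
    Nat.card A < (FX V A).index
  /-- (UPE) -/
  upe : ∀ B ∈ UU, ∀ C ∈ UU, IsPGroup 2 ((B ⊔ C : Subgroup Y)) → EX V B = EX V C
  /-- (BAD) -/
  bad : ∀ B ∈ UU, ∀ x ∈ FX V B, x ≠ 0 → ∀ y : Y, y • x = x → EX V (MulAut.conj y • B) = EX V B
  /-- `V` irreducible -/
  inter : ∀ x : V, (∀ B ∈ UU, x ∈ EX V B) → x = 0

/-- **Output of (0)-(4).**  Points = members, lines = `LL`. -/
structure Geo {V Y : Type u} [AddCommGroup V] [Group Y] [DistribMulAction Y V] (a : ℕ)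
    (h2 : ∀ v : V, v + v = 0) (UU : Set (Subgroup Y)) : Prop where
  finV : Finite V
  finY : Finite Y
  four : 4 ≤ a
  faith : ∀ y : Y, (∀ v : V, y • v = v) → y = 1
  mem : ∀ B ∈ UU, Mem V a B
  conj : ∀ B ∈ UU, ∀ y : Y, MulAut.conj y • B ∈ UU
  cls : ∀ B ∈ UU, ∀ C ∈ UU, ∃ y : Y, MulAut.conj y • B = C
  upe : ∀ B ∈ UU, ∀ C ∈ UU, IsPGroup 2 ((B ⊔ C : Subgroup Y)) → EX V B = EX V C
  /-- (BAD) -/
  bad : ∀ B ∈ UU, ∀ x ∈ FX V B, x ≠ 0 → ∀ y : Y, y • x = x → EX V (MulAut.conj y • B) = EX V B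
  /-- different `K`-hyperplanes -/
  sup : ∀ B ∈ UU, ∀ C ∈ UU, EX V B ≠ EX V C → EX V B ⊔ EX V C = ⊤
  /-- (0) `F` is a `K`-point -/
  cardF : ∀ B ∈ UU, Nat.card (FX V B) = a
  /-- (3) one member at every point -/
  inj : ∀ B ∈ UU, ∀ C ∈ UU, EX V B = EX V C → B = C
  /-- opposite members -/
  opp : ∀ B ∈ UU, ∀ C ∈ UU, B ≠ C → ¬ Bad V B C → ∀ b ∈ B, MulAut.conj b • C = C → b = 1
  /-- (2) the line group of a bad pair is contained in both members -/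
  le : ∀ B ∈ UU, ∀ C ∈ UU, Bad V B C → HH V h2 (EX V B ⊓ EX V C) ≤ B ⊓ C
  /-- (4) a line, and two different points on it -/
  com : ∀ A ∈ LL V h2 UU, ∀ B ∈ UU, ∀ C ∈ UU, A ≤ B → A ≤ C → B ≠ C →
    Bad V B C ∧ A = HH V h2 (EX V B ⊓ EX V C) ∧ CM V A = FX V B ⊔ FX V C ∧ FX V A = EX V B ⊓ EX V C
  cardA : ∀ A ∈ LL V h2 UU, Nat.card A = a
  /-- (4) the points on a line -/
  pts : ∀ A ∈ LL V h2 UU, ∀ x ∈ CM V A, x ≠ 0 → ∃ B ∈ UU, A ≤ B ∧ x ∈ FX V B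
  /-- (4) two lines through `B` -/
  meet : ∀ A ∈ LL V h2 UU, ∀ A' ∈ LL V h2 UU, ∀ B ∈ UU, A ≤ B → A' ≤ B → A ≠ A' →
    A ⊓ A' = ⊥ ∧ CM V A ⊓ CM V A' = FX V B
  /-- (1) `B₀ = N_B(C)` has index `a` in `B` -/
  ind0 : ∀ B ∈ UU, ∀ C ∈ UU, Bad V B C → Nat.card B = a * Nat.card ↥(B ⊓ normalizer (C : Set Y))
  /-- (1) `B₀` is trivial on `l`, `I / l`, `V / I`, and `C_V(B₀) = l` -/
  tri : ∀ B ∈ UU, ∀ C ∈ UU, Bad V B C → ∀ b ∈ B ⊓ normalizer (C : Set Y),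
    (∀ x ∈ FX V B ⊔ FX V C, b • x = x) ∧ (∀ x ∈ EX V B ⊓ EX V C, dl b x ∈ FX V B ⊔ FX V C) ∧
      ∀ v : V, dl b v ∈ EX V B ⊓ EX V C
  fix0 : ∀ B ∈ UU, ∀ C ∈ UU, Bad V B C → FX V (B ⊓ normalizer (C : Set Y)) = FX V B ⊔ FX V C
  /-- `A'` and `B₀` are `K`-subspaces of `B` -/
  sub0 : ∀ B ∈ UU, ∀ C ∈ UU, Bad V B C → ∀ A ∈ LL V h2 UU, A ≤ B →
    A ≤ normalizer (C : Set Y) ∨ A ⊓ normalizer (C : Set Y) = ⊥
  /-- a `K`-linear 2-element `c` which normalises the line `A` through `B` and centralises `F_B` -/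
  lin : ∀ A ∈ LL V h2 UU, ∀ B ∈ UU, A ≤ B → ∀ C ∈ UU, ∀ c ∈ C, MulAut.conj c • A = A → c ∈ normalizer (B : Set Y) →
    ∀ x ∈ CM V A, dl c x ∈ FX V B

end Cfsg.Agent.Omega.NO1.Lines
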