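import Cfsg.Agent.Omega.NO1.Lines.Quad
import Cfsg.Agent.Omega.NO1.Comp.Comp

/-!
# N1-ONE, THEOREM LINES (#18965): (8), the end

`Geo.false` : the geometry `Geo` of (0)-(4), the Sylow part `Syl` and exactly one component are contradictory.
-/

set_option autoImplicit false
set_option linter.unusedSectionVars false

namespace Cfsg.Agent.Omega.NO1.Lines

open Subgroup Cfsg
open Cfsg.Agent.Omega.NO1.HE (dl dl_apply dl_one dl_eq_zero dl_comm dl_mul dl_self add_eq_zero' mem_conj)
open Cfsg.Agent.Omega.NO1.Alpha (FX EX Mem mem_FX mem_EX smul_mem_FX smul_mem_EX dl_conj conj_eq_iff FX_anti)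
open Cfsg.Agent.Omega.NO1.Comp.Grp (Sit MinP)
open Cfsg.Agent.Omega.EH3.Clif.Comp (commutator_self)
open scoped Pointwise

universe u

variable {V Y : Type u} [AddCommGroup V] [Group Y] [DistribMulAction Y V]

namespace Geo

variable {a : ℕ} {h2 : ∀ v : V, v + v = 0} {UU : Set (Subgroup Y)} (h : Geo a h2 UU)

include h

/-- the kernel on the points has odd order -/
theorem ker_odd (s : Syl V UU) {T : Sylow 2 Y} {Mx : Subgroup Y} (m : MinP T Mx) {N : Subgroup Y} (hN : N.Normal)
    (hNB : ∀ B ∈ UU, N ≤ normalizer (B : Set Y)) : ¬ 2 ∣ Nat.card N := by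
  have := h.finY
  intro h1
  have h3 := m.fr hN h1
  obtain ⟨B, hB, -⟩ := h.small s
  obtain ⟨R, hR⟩ := h.exists_syl hB
  -- conjugate `B` into `T`
  obtain ⟨g, hg⟩ := MulAction.exists_smul_eq Y R T
  have hB' := h.conj B hB g
  have hT : MulAut.conj g • B ≤ (T : Subgroup Y) := by
    rw [← hg, Sylow.coe_subgroup_smul]
    exact conj_mono g hR
  apply h.norm_ne_top s hB'
  rw [eq_top_iff, ← h3]
  exact sup_le (hNB _ hB') (h.syl_le hB' T hT)

/-- **THEOREM LINES, the end**: one component is impossible. -/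
theorem false (s : Syl V UU) {T : Sylow 2 Y} {Mx K : Subgroup Y} (m : Sit T Mx K)
    (one : ∀ L : Subgroup Y, IsComponent L → L = K) : False := by
  have := h.finY
  let _ := h.ptAct
  let _ := h.lnAct
  have G := h.gq s
  obtain ⟨B, hB, -⟩ := h.small s
  obtain ⟨A, hA, A', hA', hne, h1, h3⟩ := h.two_lines s hB
  set p : UU := ⟨B, hB⟩
  set l : LL V h2 UU := ⟨A, hA⟩
  set l' : LL V h2 UU := ⟨A', hA'⟩
  have hll : l ≠ l' := fun e => hne (congrArg Subtype.val e)
  have hlay : layer Y = K := le_antisymm (sSup_le fun L hL => (one L hL).le) (m.comp_le m.comp)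
  have hKK : ⁅K, K⁆ = K := commutator_self m.comp
  -- `K ≤ Y₀`
  have hY0 : K ≤ G.Y0 l := by
    rcases G.index_le (p := p) (l := l) (m := l') h1 h3 hll with h4 | h4
    · rw [h4]
      exact le_top
    · rw [← hKK, commutator_le]
      intro x _ y _
      rw [commutatorElement_def, mul_mem_iff_of_index_two h4, mul_mem_iff_of_index_two h4,
        mul_mem_iff_of_index_two h4, inv_mem_iff, inv_mem_iff]
      by_cases hx : x ∈ G.Y0 l <;> by_cases hy : y ∈ G.Y0 l <;> simp [hx, hy]
  -- `K` is contained in both groups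
  have key : ∀ n : LL V h2 UU, K ≤ G.Y0 n →
      K ≤ Grid.GQ.K (Y := Y) (fun (p : UU) (l : LL V h2 UU) => (l : Subgroup Y) ≤ p) (fun l => (l : Subgroup Y)) n := by
    intro n hn
    by_contra hcon
    have h4 := Cfsg.Agent.S1270.component_comm_of_normalizes m.comp (R := Grid.GQ.K (Y := Y)
      (fun (p : UU) (l : LL V h2 UU) => (l : Subgroup Y) ≤ p) (fun l => (l : Subgroup Y)) n) (fun k hk => ?_) hcon
    · obtain ⟨x, hx, hx1⟩ : ∃ x ∈ (n : Subgroup Y), x ≠ 1 := by
        by_contra hc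
        push Not at hc
        exact h.A_ne_bot n.2 ((Subgroup.eq_bot_iff_forall _).2 hc)
      have h5 : x ∈ Grid.GQ.K (Y := Y) (fun (p : UU) (l : LL V h2 UU) => (l : Subgroup Y) ≤ p)
          (fun l => (l : Subgroup Y)) n := Grid.GQ.A_le_K (Grid.par_refl n) hx
      obtain ⟨C, hC, -, -, -, hnC, -⟩ := h.A_sub n.2
      refine hx1 (m.eq_one_of_cent ((h.mem C hC).sq x (hnC hx)) fun y hy => ?_)
      rw [hlay] at hy
      have h6 := (commutator_eq_bot_iff_le_centralizer.1 h4) hy
      exact (mem_centralizer_iff.1 h6 x h5)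
    · rw [mem_normalizer_iff]
      intro x
      refine ⟨fun hx => G.K_norm (hn hk) hx, fun hx => ?_⟩
      have h5 := G.K_norm (hn (inv_mem hk)) hx
      have e : k⁻¹ * (k * x * k⁻¹) * k⁻¹⁻¹ = x := by group
      rwa [e] at h5
  have hK1 := key l hY0
  have hK2 := key l' (by rw [← G.Y0_eq (p := p) h1 h3 hll]; exact hY0)
  -- `K` normalises all members
  have hfix : ∀ D ∈ UU, K ≤ normalizer (D : Set Y) := by
    intro D hD x hx
    have h4 := G.fix_of_mem (p := p) (l := l) (m := l') h1 h3 hll (hK1 hx) (hK2 hx) ⟨D, hD⟩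
    exact conj_eq_iff.1 (congrArg Subtype.val h4)
  have hKn : K.Normal := by
    rw [← hlay]
    exact Cfsg.Agent.Omega.NO1.Comp.Grp.layer_normal
  exact h.ker_odd s m.toMinP hKn hfix m.even

end Geo

end Cfsg.Agent.Omega.NO1.Lines
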