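import Cfsg.Agent.Omega.NO1.Lines.PairGeo
import Cfsg.Agent.Omega.NO1.Lines.End

/-!
# N1-ONE, THEOREM LINES (helper806, #18965): the theorem

`Hyp.plus` : under `Hyp` (K-linear members, `|V / E_B| = |K| ≥ 4`, no offender, (UPE), (BAD)), `MinP`, a component of even
order and exactly one component: a bad pair of members lies in one point, i.e. (+).
-/

set_option autoImplicit false
set_option linter.unusedSectionVars false

namespace Cfsg.Agent.Omega.NO1.Lines

open Subgroup Cfsg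
open Cfsg.Agent.Omega.NO1.Comp.Grp (Sit MinP)
open scoped Pointwise

universe u

theorem uniq_of_minP {Y : Type u} [Group Y] [Finite Y] {T : Sylow 2 Y} {Mx : Subgroup Y} (m : MinP T Mx)
    (T' : Sylow 2 Y) : ∃ M : Subgroup Y, M ≠ ⊤ ∧ ∀ H : Subgroup Y, (T' : Subgroup Y) ≤ H → H ≠ ⊤ → H ≤ M := by
  obtain ⟨g, rfl⟩ := MulAction.exists_smul_eq Y T T'
  have htop : ∀ x : Y, ∀ H : Subgroup Y, MulAut.conj x • H = ⊤ → H = ⊤ := by
    intro x H h
    rw [← inv_smul_smul (MulAut.conj x) H, h]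
    exact eq_top_iff.2 fun y _ => Subgroup.mem_inv_pointwise_smul_iff.2 (mem_top _)
  refine ⟨MulAut.conj g • Mx, fun h => m.Mne (htop g _ h), ?_⟩
  intro H hH hne
  have h1 : (T : Subgroup Y) ≤ (MulAut.conj g)⁻¹ • H := by
    intro x hx
    rw [Subgroup.mem_inv_pointwise_smul_iff]
    apply hH
    rw [Sylow.smul_def] 
    exact Subgroup.smul_mem_pointwise_smul x (MulAut.conj g) _ hx
  have h2 := m.max _ h1 (fun h => hne (by
    have h3 : MulAut.conj g⁻¹ • H = ⊤ := by rw [map_inv]; exact h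
    exact htop _ _ h3))
  intro x hx
  rw [Subgroup.mem_pointwise_smul_iff_inv_smul_mem]
  apply h2
  rw [Subgroup.mem_inv_pointwise_smul_iff, smul_inv_smul]
  exact hx

variable {K V Y : Type u} [Field K] [AddCommGroup V] [Module K V] [Group Y] [DistribMulAction Y V]
  {UU : Set (Subgroup Y)}

/-- **THEOREM LINES** (#18965): (+). -/
theorem Hyp.plus (h : Hyp K V Y UU) {T : Sylow 2 Y} {Mx L : Subgroup Y} (m : Sit T Mx L)
    (one : ∀ L' : Subgroup Y, IsComponent L' → L' = L) {B C : Subgroup Y} (hB : B ∈ UU) (hC : C ∈ UU)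
    (hb : Bad V B C) : normalizer (B : Set Y) ⊔ normalizer (C : Set Y) ≠ ⊤ := by
  intro htop
  have := h.finY
  exact (h.geo_all ⟨B, hB, C, hC, hb⟩).false
    ⟨m.core, uniq_of_minP m.toMinP, B, hB, C, hC, hb, htop⟩ m one

end Cfsg.Agent.Omega.NO1.Lines
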