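import Cfsg.Agent.Omega.NO1.Lines.Zero

/-!
# N1-ONE, THEOREM LINES (helper806, #18965), (3) and (4): `Geo` from (2)

Inputs: `Hyp`, a bad pair exists, and for bad pairs `HH (E_B ∩ E_C) ≤ B` (`le`) and `|HH (E_B ∩ E_C)| = |K|` (`card`).

* `Hyp.uniq` : (3) one member at every `E`-point;
* `Hyp.range_eq`, `Hyp.CM_eq`, `Hyp.FX_eq` : `[V, s] = [V, A] = F_B + F_C`, `C_V(s) = C_V(A) = E_B ∩ E_C`;
* `Hyp.com`, `Hyp.pts`, `Hyp.meet`, ... : (4);
* **`Hyp.geo`** : `Geo (Nat.card K) h.two UU`.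
-/

set_option autoImplicit false
set_option linter.unusedSectionVars false

namespace Cfsg.Agent.Omega.NO1.Lines

open Subgroup
open Cfsg.Agent.Omega.NO1.HE (dl dl_apply dl_one dl_eq_zero dl_comm dl_mul dl_self add_eq_zero' mem_conj)
open Cfsg.Agent.Omega.NO1.Alpha (FX EX Mem mem_FX mem_EX smul_mem_FX smul_mem_EX dl_conj conj_eq_iff FX_anti)
open scoped Pointwise

universe u

namespace Hyp

variable {K V Y : Type u} [Field K] [AddCommGroup V] [Module K V] [Group Y] [DistribMulAction Y V]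
  {UU : Set (Subgroup Y)} (h : Hyp K V Y UU) {B C : Subgroup Y} (hB : B ∈ UU) (hC : C ∈ UU)
include h hB

/-- `[E_B, s] = F_B` -/
theorem dl_onto {s : Y} (hs : s ∈ B) (h1 : s ≠ 1) {f : V} (hf : f ∈ FX V B) : ∃ e ∈ EX V B, dl s e = f := by
  obtain ⟨e, he, he0⟩ := h.nondeg hB hs h1
  obtain ⟨k, rfl⟩ := h.F_eq hB ((h.mem B hB).dlF hs he) he0 hf
  exact ⟨k • e, h.smulE hB he k, h.dls hB hs k e⟩

theorem F_le_range {s : Y} (hs : s ∈ B) (h1 : s ≠ 1) : FX V B ≤ (dl s : V →+ V).range := fun f hf => by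
  obtain ⟨e, -, he⟩ := h.dl_onto hB hs h1 hf
  exact ⟨e, he⟩

/-- two members at the same `E`-point with a common element have the same `F` -/
theorem F_le_of {B' : Subgroup Y} (hE : EX V B = EX V B') {s : Y} (hs : s ∈ B) (hs' : s ∈ B')
    (h1 : s ≠ 1) : FX V B ≤ FX V B' := fun f hf => by
  obtain ⟨e, he, rfl⟩ := h.dl_onto hB hs h1 hf
  rw [hE] at he
  exact he s hs'

include hC

/-- `V = E_B + E_C` -/
theorem sup_top (hne : EX V B ≠ EX V C) : EX V B ⊔ EX V C = ⊤ := by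
  have := h.finV
  obtain ⟨e, he, hec⟩ : ∃ e ∈ EX V C, e ∉ EX V B := by
    by_contra hcon
    push Not at hcon
    have h1 : EX V C ≤ EX V B := hcon
    have h3 : (EX V B).index = (EX V C).index := by rw [(h.mem B hB).ind, (h.mem C hC).ind]
    exact hne (AddSubgroup.eq_of_le_of_card_ge h1 (by
      have h4 := AddSubgroup.index_mul_card (EX V B)
      have h5 := AddSubgroup.index_mul_card (EX V C)
      rw [h3] at h4
      have h6 : (EX V C).index ≠ 0 := AddSubgroup.index_ne_zero_of_finite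
      exact (Nat.eq_of_mul_eq_mul_left (Nat.pos_of_ne_zero h6) (h4.trans h5.symm)).le)).symm
  rw [eq_top_iff]
  intro v _
  obtain ⟨k, hk⟩ := h.line' hB hec v
  have h1 : v = (v + k • e) + -(k • e) := by abel
  rw [h1]
  exact AddSubgroup.add_mem _ (AddSubgroup.mem_sup_left hk)
    (AddSubgroup.mem_sup_right ((EX V C).neg_mem (h.smulE hC he k)))

/-- `|V : E_B ∩ E_C| = |K|²` -/
theorem index_inf (hne : EX V B ≠ EX V C) : (EX V B ⊓ EX V C : AddSubgroup V).index = Nat.card K ^ 2 := by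
  have h1 := AddSubgroup.relIndex_mul_index (inf_le_right : EX V B ⊓ EX V C ≤ EX V C)
  rw [AddSubgroup.inf_relIndex_right, (h.mem C hC).ind] at h1
  have h3 : (EX V B).relIndex (EX V C) = Nat.card K := by
    rw [← AddSubgroup.relIndex_sup_right, sup_comm, h.sup_top hB hC hne, AddSubgroup.relIndex_top_right,
      (h.mem B hB).ind]
  rw [h3] at h1
  rw [← h1, sq]

theorem card_sup (hne : EX V B ≠ EX V C) : Nat.card K ^ 2 ≤ Nat.card (FX V B ⊔ FX V C : AddSubgroup V) := by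
  have := h.finV
  let g : FX V B × FX V C → (FX V B ⊔ FX V C : AddSubgroup V) := fun p =>
    ⟨p.1.1 + p.2.1, AddSubgroup.add_mem _ (AddSubgroup.mem_sup_left p.1.2) (AddSubgroup.mem_sup_right p.2.2)⟩
  have hg : Function.Injective g := by
    rintro ⟨⟨x, hx⟩, ⟨y, hy⟩⟩ ⟨⟨x', hx'⟩, ⟨y', hy'⟩⟩ hxy
    have h1 : x + y = x' + y' := congrArg Subtype.val hxy
    have h3 : x - x' = y' - y := by
      rw [sub_eq_sub_iff_add_eq_add, h1, add_comm]
    have h4 : x - x' = 0 := h.disj hB hC hne ((FX V B).sub_mem hx hx') (h3 ▸ (FX V C).sub_mem hy' hy)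
    have h5 : y' - y = 0 := h3 ▸ h4
    have e1 := sub_eq_zero.1 h4
    have e2 := sub_eq_zero.1 h5
    subst e1
    subst e2
    rfl
  have h1 := Nat.card_le_card_of_injective g hg
  rwa [Nat.card_prod, h.cardF hB, h.cardF hC, ← sq] at h1

/-! ### (3) -/

theorem FX_eq_of (hE : EX V B = EX V C) {s : Y} (hs : s ∈ B) (hs' : s ∈ C) (h1 : s ≠ 1) : FX V B = FX V C :=
  le_antisymm (h.F_le_of hB hE hs hs' h1) (h.F_le_of hC hE.symm hs' hs h1)

/-- (3), the second half: `E_B = E_C`, `F_B = F_C`, `HH (I) ≤ B` -/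
theorem le_of (hE : EX V B = EX V C) (hF : FX V B = FX V C) {I : AddSubgroup V} (hI : I ≤ EX V B) (hFI : FX V B ≤ I)
    (hH : HH (Y := Y) V h.two I ≤ B) : B ≤ C := by
  obtain ⟨w, hw⟩ := (h.mem B hB).ne
  have hw' : w ∉ EX V C := hE ▸ hw
  intro s hs
  obtain ⟨t, ht, htf⟩ := (h.mem C hC).surj w hw' (dl s w) (hE ▸ (h.mem B hB).VB s hs w)
  rw [← hF] at htf
  -- `u = s t`
  have hdF : ∀ f ∈ FX V B, dl (s * t) f = 0 := fun f hf => by
    rw [dl_eq_zero h.two, mul_smul, (hF ▸ hf : f ∈ FX V C) t ht, hf s hs]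
  have hdE : ∀ e ∈ EX V B, dl (s * t) e ∈ FX V B := fun e he => by
    have h1 : dl t e ∈ FX V B := hF ▸ (h.mem C hC).dlF ht (hE ▸ he)
    rw [dl_mul h.two, (h.mem B hB).dl0 h.two hs h1, add_zero]
    exact (FX V B).add_mem ((h.mem B hB).dlF hs he) h1
  have hlin : ∀ (k : K) (v : V), dl (s * t) (k • v) = k • dl (s * t) v := fun k v => by
    rw [dl_apply, dl_apply, smul_add, mul_smul, mul_smul, h.lin C hC t ht, h.lin B hB s hs]
  have hdw : dl (s * t) w ∈ FX V B := by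
    rw [dl_mul h.two, add_comm (dl s w)]
    refine (FX V B).add_mem htf ((h.mem B hB).dlF hs ?_)
    rw [hE]
    exact (h.mem C hC).VB t ht w
  have hdV : ∀ v : V, dl (s * t) v ∈ FX V B := fun v => by
    obtain ⟨k, hk⟩ := h.line' hB hw v
    have h1 : dl (s * t) v = dl (s * t) (v + k • w) - k • dl (s * t) w := by
      rw [map_add, hlin, add_sub_cancel_right]
    rw [h1]
    exact (FX V B).sub_mem (hdE _ hk) (h.smulF hB hdw k)
  by_cases h0 : ∀ e ∈ EX V B, dl (s * t) e = 0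
  · have h1 : s * t ∈ B := hH ⟨fun x hx => (dl_eq_zero h.two).1 (h0 x (hI hx)), fun v => hFI (hdV v)⟩
    have h3 := (h.mem B hB).inj w hw _ h1 hdw
    rw [eq_inv_of_mul_eq_one_left h3]
    exact C.inv_mem ht
  exfalso
  push Not at h0
  obtain ⟨e, he, he0⟩ := h0
  obtain ⟨b, hb, hbf⟩ := (h.mem B hB).surj w hw e he
  set u := s * t with hu
  -- `[V, (u b)²]`
  have hdl : ∀ v : V, dl ((u * b) * (u * b)) v = dl u (dl b v) := by
    intro v
    have e1 : ∀ x : V, dl u (dl u x) = 0 := fun x => hdF _ (hdV x)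
    have e2 : ∀ x : V, dl b (dl u x) = 0 := fun x => (h.mem B hB).dl0 h.two hb (hdV x)
    have e3 : ∀ x : V, dl b (dl b x) = 0 := fun x => dl_self h.two ((h.mem B hB).sq b hb) x
    rw [dl_mul h.two (u * b) (u * b) v, h.two, zero_add]
    rw [dl_mul h.two u b v, dl_mul h.two]
    simp only [map_add, e1, e2, e3, map_zero, add_zero, zero_add]
  have h1 : (u * b) * (u * b) ∈ B := by
    refine hH ⟨fun x hx => ?_, fun v => ?_⟩
    · rw [← dl_eq_zero h.two, hdl]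
      exact hdF _ ((h.mem B hB).dlF hb (hI hx))
    · rw [hdl]
      exact hFI (hdV _)
  have h3 : (u * b) * (u * b) = 1 := (h.mem B hB).inj w hw _ h1 (by rw [hdl]; exact hdV _)
  have h4 := hdl w
  rw [h3, dl_one h.two] at h4
  have h5 := hdF _ hbf
  rw [map_add, ← h4, zero_add] at h5
  exact he0 h5

omit hB hC

section LE

variable (le : ∀ B ∈ UU, ∀ C ∈ UU, Bad V B C → HH (Y := Y) V h.two (EX V B ⊓ EX V C) ≤ B)
  (card : ∀ B ∈ UU, ∀ C ∈ UU, Bad V B C → Nat.card (HH (Y := Y) V h.two (EX V B ⊓ EX V C)) = Nat.card K)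
include le card

theorem exists_HH (hB : B ∈ UU) (hC : C ∈ UU) (hb : Bad V B C) : ∃ s ∈ HH (Y := Y) V h.two (EX V B ⊓ EX V C), s ≠ 1 := by
  by_contra hcon
  push Not at hcon
  have h1 : HH (Y := Y) V h.two (EX V B ⊓ EX V C) = ⊥ := (Subgroup.eq_bot_iff_forall _).2 hcon
  have h3 := card B hB C hC hb
  rw [h1, Subgroup.card_bot] at h3
  have := h.four
  omega

theorem le' (hB : B ∈ UU) (hC : C ∈ UU) (hb : Bad V B C) : HH (Y := Y) V h.two (EX V B ⊓ EX V C) ≤ C := by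
  rw [inf_comm]
  exact le C hC B hB (h.bad_symm hB hC hb)

theorem uniq' (hB : B ∈ UU) {B' : Subgroup Y} (hB' : B' ∈ UU) (hC : C ∈ UU) (hb : Bad V B C)
    (hE : EX V B = EX V B') : B ≤ B' := by
  obtain ⟨s, hs, h1⟩ := h.exists_HH le card hB hC hb
  have hb' : Bad V B' C := by
    obtain ⟨h3, x, hx, hx0, hxE⟩ := hb
    exact ⟨hE ▸ h3, x, hx, hx0, hE ▸ hxE⟩
  have hsB := le B hB C hC hb hs
  have hsB' := le B' hB' C hC hb' (hE ▸ hs)
  exact h.le_of hB hB' hE (h.FX_eq_of hB hB' hE hsB hsB' h1) inf_le_left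
    (le_inf (h.FE hB) (h.bad_le' hB hC hb)) (le B hB C hC hb)

theorem exists_bad (hex : ∃ B ∈ UU, ∃ C ∈ UU, Bad V B C) (hB : B ∈ UU) : ∃ C ∈ UU, Bad V B C := by
  obtain ⟨B₀, hB₀, C₀, hC₀, hne, x, hx, hx0, hxE⟩ := hex
  obtain ⟨y, rfl⟩ := h.cls B₀ hB₀ B hB
  refine ⟨MulAut.conj y • C₀, h.conj C₀ hC₀ y, fun e => hne ?_, y • x, smul_mem_FX.2 hx, ?_, smul_mem_EX.2 hxE⟩
  · ext v
    rw [← smul_mem_EX (g := y), e, smul_mem_EX]
  · rw [Ne, smul_eq_zero_iff_eq]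
    exact hx0

/-- **(3)** -/
theorem uniq (hex : ∃ B ∈ UU, ∃ C ∈ UU, Bad V B C) (hB : B ∈ UU) {B' : Subgroup Y} (hB' : B' ∈ UU)
    (hE : EX V B = EX V B') : B = B' := by
  obtain ⟨C, hC, hb⟩ := h.exists_bad le card hex hB
  have hb' : Bad V B' C := by
    obtain ⟨h3, x, hx, hx0, hxE⟩ := hb
    exact ⟨hE ▸ h3, x, hx, hx0, hE ▸ hxE⟩
  exact le_antisymm (h.uniq' le card hB hB' hC hb hE) (h.uniq' le card hB' hB hC hb' hE.symm)

theorem NE_eq (hex : ∃ B ∈ UU, ∃ C ∈ UU, Bad V B C) (hB : B ∈ UU) : NE V B = normalizer (B : Set Y) := by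
  refine le_antisymm (fun y hy => conj_eq_iff.1 ?_) normalizer_le_NE
  exact h.uniq le card hex (h.conj B hB y) hB (mem_NE_iff.1 hy)

/-! ### the line of a bad pair -/

theorem range_eq (hB : B ∈ UU) (hC : C ∈ UU) (hb : Bad V B C) {s : Y} (hs : s ∈ HH (Y := Y) V h.two (EX V B ⊓ EX V C))
    (h1 : s ≠ 1) : (dl s : V →+ V).range = FX V B ⊔ FX V C := by
  have := h.finV
  have hsB := le B hB C hC hb hs
  have hsC := h.le' le card hB hC hb hs
  have hker : (dl s : V →+ V).ker = EX V B ⊓ EX V C := by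
    ext v
    rw [AddMonoidHom.mem_ker, dl_eq_zero h.two]
    exact ⟨fun h3 => ⟨(h.mem B hB).mem_of_fix h.two hsB h1 h3, (h.mem C hC).mem_of_fix h.two hsC h1 h3⟩,
      fun h3 => hs.1 v h3⟩
  have h3 := AddSubgroup.index_ker (dl s : V →+ V)
  rw [hker, h.index_inf hB hC hb.1] at h3
  symm
  refine AddSubgroup.eq_of_le_of_card_ge (sup_le (h.F_le_range hB hsB h1) (h.F_le_range hC hsC h1)) ?_
  rw [← h3]
  exact h.card_sup hB hC hb.1

theorem CM_eq (hB : B ∈ UU) (hC : C ∈ UU) (hb : Bad V B C) :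
    CM V (HH (Y := Y) V h.two (EX V B ⊓ EX V C)) = FX V B ⊔ FX V C := by
  obtain ⟨s, hs, h1⟩ := h.exists_HH le card hB hC hb
  apply le_antisymm
  · rw [CM, AddSubgroup.closure_le]
    rintro x ⟨t, ht, v, rfl⟩
    by_cases ht1 : t = 1
    · rw [ht1, dl_one h.two]
      exact AddSubgroup.zero_mem _
    · rw [← h.range_eq le card hB hC hb ht ht1]
      exact ⟨v, rfl⟩
  · rw [← h.range_eq le card hB hC hb hs h1]
    rintro x ⟨v, rfl⟩
    exact AddSubgroup.subset_closure ⟨s, hs, v, rfl⟩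

theorem fix_HH (hB : B ∈ UU) (hC : C ∈ UU) (hb : Bad V B C) {s : Y} (hs : s ∈ HH (Y := Y) V h.two (EX V B ⊓ EX V C))
    (h1 : s ≠ 1) {v : V} (hv : s • v = v) : v ∈ EX V B ⊓ EX V C :=
  ⟨(h.mem B hB).mem_of_fix h.two (le B hB C hC hb hs) h1 hv,
    (h.mem C hC).mem_of_fix h.two (h.le' le card hB hC hb hs) h1 hv⟩

theorem FX_HH (hB : B ∈ UU) (hC : C ∈ UU) (hb : Bad V B C) :
    FX V (HH (Y := Y) V h.two (EX V B ⊓ EX V C)) = EX V B ⊓ EX V C := by
  obtain ⟨s, hs, h1⟩ := h.exists_HH le card hB hC hb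
  exact le_antisymm (fun v hv => h.fix_HH le card hB hC hb hs h1 (hv s hs)) fun v hv t ht => ht.1 v hv

/-! ### (4) -/

/-- a common nontrivial element of `HH (E_B ∩ E_C)`, `B'`, `C'` -/
theorem com' (hB : B ∈ UU) (hC : C ∈ UU) (hb : Bad V B C) {B' C' : Subgroup Y} (hB' : B' ∈ UU) (hC' : C' ∈ UU)
    (hE : EX V B' ≠ EX V C') {s : Y} (hs : s ∈ HH (Y := Y) V h.two (EX V B ⊓ EX V C)) (h1 : s ≠ 1) (hsB : s ∈ B')
    (hsC : s ∈ C') : Bad V B' C' ∧ EX V B ⊓ EX V C = EX V B' ⊓ EX V C' := by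
  have := h.finV
  have hI : EX V B ⊓ EX V C = EX V B' ⊓ EX V C' := by
    have h3 : EX V B ⊓ EX V C ≤ EX V B' ⊓ EX V C' := fun v hv =>
      ⟨(h.mem B' hB').mem_of_fix h.two hsB h1 (hs.1 v hv), (h.mem C' hC').mem_of_fix h.two hsC h1 (hs.1 v hv)⟩
    refine AddSubgroup.eq_of_le_of_card_ge h3 ?_
    have h4 := AddSubgroup.index_mul_card (EX V B ⊓ EX V C)
    have h5 := AddSubgroup.index_mul_card (EX V B' ⊓ EX V C')
    rw [h.index_inf hB hC hb.1] at h4
    rw [h.index_inf hB' hC' hE] at h5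
    have h6 : 0 < Nat.card K ^ 2 := by
      have := h.four
      positivity
    exact (Nat.eq_of_mul_eq_mul_left h6 (h5.trans h4.symm)).le
  refine ⟨⟨hE, ?_⟩, hI⟩
  obtain ⟨x, hx, hx0⟩ := h.exists_F hC'
  have h3 : x ∈ FX V B ⊔ FX V C := by
    rw [← h.range_eq le card hB hC hb hs h1]
    exact h.F_le_range hC' hsC h1 hx
  have h4 : FX V B ⊔ FX V C ≤ EX V B ⊓ EX V C :=
    sup_le (le_inf (h.FE hB) (h.bad_le' hB hC hb)) (le_inf (h.bad_le hB hC hb) (h.FE hC))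
  have h5 := h4 h3
  rw [hI] at h5
  exact ⟨x, hx, hx0, h5.1⟩

theorem com (hex : ∃ B ∈ UU, ∃ C ∈ UU, Bad V B C) {A : Subgroup Y} (hA : A ∈ LL V h.two UU) (hB : B ∈ UU) (hC : C ∈ UU)
    (hAB : A ≤ B) (hAC : A ≤ C) (hne : B ≠ C) :
    Bad V B C ∧ A = HH (Y := Y) V h.two (EX V B ⊓ EX V C) ∧ CM V A = FX V B ⊔ FX V C ∧ FX V A = EX V B ⊓ EX V C := by
  obtain ⟨B₀, hB₀, C₀, hC₀, hb, rfl⟩ := hA
  obtain ⟨s, hs, h1⟩ := h.exists_HH le card hB₀ hC₀ hb
  have hE : EX V B ≠ EX V C := fun e => hne (h.uniq le card hex hB hC e)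
  obtain ⟨h3, h4⟩ := h.com' le card hB₀ hC₀ hb hB hC hE hs h1 (hAB hs) (hAC hs)
  rw [h4]
  exact ⟨h3, rfl, h.CM_eq le card hB hC h3, h.FX_HH le card hB hC h3⟩

theorem F_le_CM {A : Subgroup Y} (hA : A ∈ LL V h.two UU) (hB : B ∈ UU) (hAB : A ≤ B) : FX V B ≤ CM V A := by
  obtain ⟨B₀, hB₀, C₀, hC₀, hb, rfl⟩ := hA
  obtain ⟨s, hs, h1⟩ := h.exists_HH le card hB₀ hC₀ hb
  rw [h.CM_eq le card hB₀ hC₀ hb, ← h.range_eq le card hB₀ hC₀ hb hs h1]
  exact h.F_le_range hB (hAB hs) h1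

theorem pts {A : Subgroup Y} (hA : A ∈ LL V h.two UU) {x : V} (hx : x ∈ CM V A) (hx0 : x ≠ 0) :
    ∃ B ∈ UU, A ≤ B ∧ x ∈ FX V B := by
  obtain ⟨B, hB, C, hC, hb, rfl⟩ := hA
  rw [h.CM_eq le card hB hC hb] at hx
  obtain ⟨f, hf, y, hy, rfl⟩ := AddSubgroup.mem_sup.1 hx
  have hHB := le B hB C hC hb
  have hHC := h.le' le card hB hC hb
  by_cases hy0 : y = 0
  · rw [hy0, add_zero]
    exact ⟨B, hB, hHB, hf⟩
  have hyB : y ∉ FX V B := fun h3 => hy0 (h.disj hB hC hb.1 h3 hy)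
  obtain ⟨b, hb', hbf⟩ := h.surj_dl hB (h.bad_le hB hC hb hy) hyB hf
  refine ⟨MulAut.conj b • C, h.conj C hC b, ?_, ?_⟩
  · intro s hs
    rw [mem_conj]
    have h3 := (h.mem B hB).comm b hb' s (hHB hs)
    have h4 : b⁻¹ * s * b = s := by rw [mul_assoc, ← h3, inv_mul_cancel_left]
    rw [h4]
    exact hHC hs
  · have h3 : f + y = b • y := by
      rw [← hbf, dl_apply, add_assoc, h.two, add_zero]
    rw [h3]
    exact smul_mem_FX.2 hy

theorem meet (hex : ∃ B ∈ UU, ∃ C ∈ UU, Bad V B C) {A A' : Subgroup Y} (hA : A ∈ LL V h.two UU) (hA' : A' ∈ LL V h.two UU)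
    (hB : B ∈ UU) (hAB : A ≤ B) (hAB' : A' ≤ B) (hne : A ≠ A') : A ⊓ A' = ⊥ ∧ CM V A ⊓ CM V A' = FX V B := by
  have hA1 := hA
  have hA1' := hA'
  obtain ⟨B₁, hB₁, C₁, hC₁, hb₁, e₁⟩ := hA
  obtain ⟨B₂, hB₂, C₂, hC₂, hb₂, e₂⟩ := hA'
  constructor
  · rw [Subgroup.eq_bot_iff_forall]
    rintro s ⟨hs, hs'⟩
    by_contra h1
    rw [e₁] at hs
    rw [e₂] at hs'
    refine hne ?_
    rw [e₁, e₂]
    congr 1
    apply le_antisymm
    · intro v hv
      exact h.fix_HH le card hB₂ hC₂ hb₂ hs' h1 (hs.1 v hv)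
    · intro v hv
      exact h.fix_HH le card hB₁ hC₁ hb₁ hs h1 (hs'.1 v hv)
  · apply le_antisymm
    · rintro x ⟨hx, hx'⟩
      by_contra hxB
      have hx0 : x ≠ 0 := fun e => hxB (e ▸ (FX V B).zero_mem)
      obtain ⟨C, hC, hAC, hxC⟩ := h.pts le card hA1 hx hx0
      obtain ⟨C', hC', hAC', hxC'⟩ := h.pts le card hA1' hx' hx0
      have hCC : C = C' := by
        refine h.uniq le card hex hC hC' ?_
        by_contra h3
        exact hx0 (h.disj hC hC' h3 hxC hxC')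
      subst hCC
      have hBC : B ≠ C := fun e => hxB (e ▸ hxC)
      have h3 := (h.com le card hex hA1 hB hC hAB hAC hBC).2.1
      have h4 := (h.com le card hex hA1' hB hC hAB' hAC' hBC).2.1
      exact hne (h3.trans h4.symm)
    · exact le_inf (h.F_le_CM le card hA1 hB hAB) (h.F_le_CM le card hA1' hB hAB')

end LE

/-- `C_V(B ∩ NE C) = F_B + F_C` -/
theorem fix_B0 (hB : B ∈ UU) (hC : C ∈ UU) (hb : Bad V B C) : FX V (B ⊓ NE V C) = FX V B ⊔ FX V C := by
  have := h.finY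
  have := h.finK
  have hfx : ∀ y ∈ FX V C, ∀ b ∈ B ⊓ NE V C, b • y = y := fun y hy b hbb => by
    by_cases h0 : y = 0
    · rw [h0, smul_zero]
    · exact (h.fix_iff hB hC hb hy h0 hbb.1).2 hbb.2
  apply le_antisymm
  · intro e he
    by_cases heF : e ∈ FX V B
    · exact AddSubgroup.mem_sup_left heF
    obtain ⟨x, hx, hx0⟩ := h.exists_F hC
    have hxB : x ∉ FX V B := fun h3 => hx0 (h.disj hB hC hb.1 h3 hx)
    have hxE := h.bad_le hB hC hb hx
    -- `B ∩ NE C ≠ 1`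
    obtain ⟨s, hs, hs1⟩ : ∃ s ∈ B ⊓ NE V C, s ≠ 1 := by
      obtain ⟨w, hw⟩ := (h.mem B hB).ne
      obtain ⟨s, hs, hf, hbx⟩ := exists_dl (h.mem B hB) h.two hw hxE
      refine ⟨s, ⟨hs, h.fix_NE hB hC hx hx0 ?_⟩, ?_⟩
      · rw [← dl_eq_zero h.two, hbx s hs]
        exact dl_self h.two ((h.mem B hB).sq s hs) _
      · rintro rfl
        rw [dl_one h.two, zero_add] at hf
        exact hxB hf
    have heE : e ∈ EX V B := (h.mem B hB).mem_of_fix h.two hs.1 hs1 (he s hs)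
    obtain ⟨b, hbB, hbN⟩ := h.exists_notNE hB hC hb.1
    have hbx0 : dl b x ≠ 0 := fun h3 => hx0 (h.inj_bad hB hC hbN hx h3)
    obtain ⟨k, hk⟩ := h.F_eq hB ((h.mem B hB).dlF hbB hxE) hbx0 ((h.mem B hB).dlF hbB heE)
    -- `e + k x ∈ F_B`
    by_cases hf : e + k • x ∈ FX V B
    · have h3 : e = (e + k • x) - k • x := by rw [add_sub_cancel_right]
      rw [h3]
      exact AddSubgroup.sub_mem _ (AddSubgroup.mem_sup_left hf) (AddSubgroup.mem_sup_right (h.smulF hC hx k))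
    exfalso
    have h3 := h.card_fix hB ((EX V B).add_mem heE (h.smulE hB hxE k)) hf
    have h4 := h.card_B0 hB hC hb
    rw [h3] at h4
    have h5 := Nat.eq_of_mul_eq_mul_left Nat.card_pos h4
    have h6 : (B ⊓ NE V C : Subgroup Y) ≤ B ⊓ MulAction.stabilizer Y (e + k • x) := fun c hc => by
      refine ⟨hc.1, ?_⟩
      change c • (e + k • x) = e + k • x
      rw [smul_add, he c hc, hfx _ (h.smulF hC hx k) c hc]
    have h7 := Subgroup.eq_of_le_of_card_ge h6 h5.le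
    have h8 : b ∈ (B ⊓ NE V C : Subgroup Y) := by
      rw [h7]
      refine ⟨hbB, ?_⟩
      change b • (e + k • x) = e + k • x
      rw [← dl_eq_zero h.two, map_add, h.dls hB hbB, hk, h.two]
    exact hbN h8.2
  · refine sup_le (fun f hf b hbb => hf b hbb.1) fun y hy b hbb => hfx y hy b hbb

/-- **THEOREM LINES, (0)-(4)** from (2) -/
theorem geo (hex : ∃ B ∈ UU, ∃ C ∈ UU, Bad V B C)
    (le : ∀ B ∈ UU, ∀ C ∈ UU, Bad V B C → HH (Y := Y) V h.two (EX V B ⊓ EX V C) ≤ B)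
    (card : ∀ B ∈ UU, ∀ C ∈ UU, Bad V B C → Nat.card (HH (Y := Y) V h.two (EX V B ⊓ EX V C)) = Nat.card K) :
    Geo (Nat.card K) h.two UU where
  finV := h.finV
  finY := h.finY
  four := h.four
  mem := h.mem
  conj := h.conj
  cls := h.cls
  faith := h.faith
  upe := h.upe
  bad := h.bad
  sup := fun B hB C hC hne => h.sup_top hB hC hne
  cardF := fun B hB => h.cardF hB
  inj := fun B hB C hC hE => h.uniq le card hex hB hC hE
  opp := fun B hB C hC hne ho b hb hbC =>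
    h.opp_one hB hC (fun e => hne (h.uniq le card hex hB hC e)) ho hb (mem_NE_iff.2 (by rw [hbC]))
  le := fun B hB C hC hb => le_inf (le B hB C hC hb) (h.le' le card hB hC hb)
  com := fun A hA B hB C hC hAB hAC hne => h.com le card hex hA hB hC hAB hAC hne
  cardA := by
    rintro A ⟨B, hB, C, hC, hb, rfl⟩
    exact card B hB C hC hb
  pts := fun A hA x hx hx0 => h.pts le card hA hx hx0
  meet := fun A hA A' hA' B hB hAB hAB' hne => h.meet le card hex hA hA' hB hAB hAB' hne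
  ind0 := fun B hB C hC hb => by
    rw [← h.NE_eq le card hex hC]
    exact h.card_B0 hB hC hb
  tri := fun B hB C hC hb b hbb => by
    rw [← h.NE_eq le card hex hC] at hbb
    have h1 := h.fix_B0 hB hC hb
    refine ⟨fun x hx => ?_, fun x hx => ?_, fun v => ⟨(h.mem B hB).VB b hbb.1 v, h.triv_NE hB hC hbb.1 hbb.2 v⟩⟩
    · rw [← h1] at hx
      exact hx b hbb
    · exact AddSubgroup.mem_sup_left ((h.mem B hB).dlF hbb.1 hx.1)
  fix0 := fun B hB C hC hb => by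
    rw [← h.NE_eq le card hex hC]
    exact h.fix_B0 hB hC hb
  sub0 := fun B hB C hC hb A hA hAB => by
    rw [← h.NE_eq le card hex hC]
    by_cases h0 : A ⊓ NE V C = ⊥
    · exact Or.inr h0
    left
    obtain ⟨s, hs, h1⟩ : ∃ s ∈ A ⊓ NE V C, s ≠ 1 := by
      by_contra hcon
      push Not at hcon
      exact h0 ((Subgroup.eq_bot_iff_forall _).2 hcon)
    obtain ⟨x, hx, hx0⟩ := h.exists_F hC
    have h3 : s • x = x := (h.fix_iff hB hC hb hx hx0 (hAB hs.1)).2 hs.2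
    obtain ⟨B₁, hB₁, C₁, hC₁, hb₁, rfl⟩ := hA
    have h4 := h.fix_HH le card hB₁ hC₁ hb₁ hs.1 h1 h3
    intro t ht
    exact (h.fix_iff hB hC hb hx hx0 (hAB ht)).1 (ht.1 x h4)
  lin := fun A hA B hB hAB C hC c hc hcA hcB x hx => by
    by_cases hxB : x ∈ FX V B
    · have h1 := (FX V B).add_mem (Alpha.smul_FX_of hcB hxB) hxB
      rwa [← dl_apply] at h1
    have hA1 := hA
    obtain ⟨B₁, hB₁, C₁, hC₁, hb₁, e₁⟩ := hA
    -- `c x ∈ [V, A]`
    have hcx : c • x ∈ CM V A := by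
      have h1 : ∀ z ∈ CM V A, c • z ∈ CM V A := by
        intro z hz
        refine AddSubgroup.closure_induction ?_ ?_ ?_ ?_ hz
        · rintro z ⟨s, hs, v, rfl⟩
          rw [← dl_conj]
          refine AddSubgroup.subset_closure ⟨c * s * c⁻¹, ?_, c • v, rfl⟩
          rw [← hcA, mem_conj]
          simpa [mul_assoc] using hs
        · rw [smul_zero]
          exact AddSubgroup.zero_mem _
        · intro z z' _ _ h3 h4
          rw [smul_add]
          exact AddSubgroup.add_mem _ h3 h4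
        · intro z _ h3
          rw [smul_neg]
          exact AddSubgroup.neg_mem _ h3
      exact h1 x hx
    have hx0 : x ≠ 0 := fun e => hxB (e ▸ (FX V B).zero_mem)
    -- `[V, A] = F_B + K x`
    have key : ∀ z ∈ CM V A, ∃ k : K, z + k • x ∈ FX V B := by
      obtain ⟨D, hD, hAD, hxD⟩ := h.pts le card hA1 hx hx0
      have hBD : B ≠ D := fun e => hxB (e ▸ hxD)
      have h3 := (h.com le card hex hA1 hB hD hAB hAD hBD).2.2.1
      intro z hz
      rw [h3] at hz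
      obtain ⟨f, hf, y, hy, rfl⟩ := AddSubgroup.mem_sup.1 hz
      obtain ⟨k, rfl⟩ := h.F_eq hD hxD hx0 hy
      refine ⟨k, ?_⟩
      rw [add_assoc, h.two, add_zero]
      exact hf
    obtain ⟨k, hk⟩ := key _ hcx
    have hc2 : c * c = 1 := (h.mem C hC).sq c hc
    have hlin := h.lin C hC c hc
    have h1 := Alpha.smul_FX_of hcB hk
    rw [smul_add, ← mul_smul, hc2, one_smul, hlin] at h1
    have h3 : x + (k * k) • x ∈ FX V B := by
      have h4 : x + (k * k) • x = (x + k • (c • x)) + k • (c • x + k • x) := by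
        rw [smul_add, ← mul_smul]
        calc x + (k * k) • x = x + (k • (c • x) + k • (c • x)) + (k * k) • x := by rw [h.two, add_zero]
          _ = _ := by abel
      rw [h4]
      exact (FX V B).add_mem h1 (h.smulF hB hk k)
    have h5 : (1 + k * k) • x ∈ FX V B := by rwa [add_smul, one_smul]
    have h6 : 1 + k * k = 0 := by
      by_contra hne
      exact hxB (of_smul_F (h.lin B hB) hne h5)
    have h7 : (1 + k) * (1 + k) = 0 := by
      have h8 := k_two h.two hx0 k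
      calc (1 + k) * (1 + k) = (1 + k * k) + (k + k) := by ring
        _ = 0 := by rw [h6, h8, add_zero]
    have h8 : k = 1 := by
      have h9 : 1 + k = 0 := by simpa using h7
      have h10 : (1 : K) + k = 1 + 1 := by rw [h9, k_two h.two hx0 (1 : K)]
      exact add_left_cancel h10
    rw [h8, one_smul] at hk
    exact hk

end Hyp

end Cfsg.Agent.Omega.NO1.Lines
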