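import Mathlib.GroupTheory.GroupAction.Basic
import Mathlib.GroupTheory.Index
import Mathlib.Tactic

/-!
# N1-ONE, THEOREM LINES (helper806, #18965), (7) and (8), abstract (helper73)

`GQ Y I A B` : points and lines, `Y` acts, two points are on at most one line, the axiom of generalised quadrangles
(`gq`, `tri`: no triangles), every point is on two lines at least, `A l` fixes all points of `l` and all lines meeting
`l`, `B p ≥ A l` is semiregular on the points opposite `p`, three lines on a point are dependent (`dep`).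

* `GQ.two` : every point is on exactly two lines;
* `GQ.par_trans` : "equal or disjoint" is an equivalence relation with two classes (`par_or`);
* `GQ.K c` : the group generated by the `A l`, `l` in the class `c`; `GQ.Y0` : the stabiliser of the classes;
  `index_le`, `K_norm`, `fix_of_mem` : `Y0` has index at most two and normalises `K₁`, `K₂`; `K₁ ⊓ K₂` fixes all points.
-/

set_option autoImplicit false
set_option linter.unusedSectionVars false

namespace Cfsg.Agent.Omega.NO1.Lines.Grid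

open Subgroup

variable {Y : Type*} [Group Y] {Pt Ln : Type*} [MulAction Y Pt] [MulAction Y Ln]

/-- opposite points -/
def Opp (I : Pt → Ln → Prop) (p q : Pt) : Prop := ∀ l, ¬ (I p l ∧ I q l)

structure GQ (I : Pt → Ln → Prop) (A : Ln → Subgroup Y) (B : Pt → Subgroup Y) : Prop where
  inv : ∀ (g : Y) p l, I p l → I (g • p) (g • l)
  one : ∀ p q l m, p ≠ q → I p l → I q l → I p m → I q m → l = m
  gq : ∀ p l, ∃ q m, I q l ∧ I q m ∧ I p m
  tri : ∀ p q r l m n, p ≠ q → q ≠ r → p ≠ r → I p l → I q l → I q m → I r m → I p n → I r n → l = m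
  ex2 : ∀ p l, ∃ m, m ≠ l ∧ I p m
  pt : ∀ p l, ∃ q, q ≠ p ∧ I q l
  fixP : ∀ l, ∀ a ∈ A l, ∀ p, I p l → a • p = p
  fixL : ∀ l, ∀ a ∈ A l, ∀ p m, I p l → I p m → a • m = m
  conj : ∀ (g : Y) l, ∀ a ∈ A l, g * a * g⁻¹ ∈ A (g • l)
  A_le : ∀ p l, I p l → A l ≤ B p
  semi : ∀ p, ∀ b ∈ B p, b ≠ 1 → ∀ q, Opp I p q → b • q ≠ q
  dep : ∀ p l m n, I p l → I p m → I p n → l ≠ m → l ≠ n → m ≠ n →
    ∃ a ∈ A l, ∃ c ∈ A m, a ≠ 1 ∧ c ≠ 1 ∧ c * a ∈ A n ∧ c * a ≠ 1

variable {I : Pt → Ln → Prop} {A : Ln → Subgroup Y} {B : Pt → Subgroup Y}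

namespace GQ

variable (h : GQ I A B)
include h

theorem inv_iff (g : Y) (p : Pt) (l : Ln) : I (g • p) (g • l) ↔ I p l := by
  refine ⟨fun h1 => ?_, h.inv g p l⟩
  have h2 := h.inv g⁻¹ _ _ h1
  rwa [inv_smul_smul, inv_smul_smul] at h2

/-- two different lines have at most one common point -/
theorem one' {p q : Pt} {l m : Ln} (hlm : l ≠ m) (h1 : I p l) (h2 : I p m) (h3 : I q l) (h4 : I q m) : p = q := by
  by_contra hpq
  exact hlm (h.one p q l m hpq h1 h3 h2 h4)

theorem opp_smul {p q : Pt} (g : Y) (ho : Opp I p q) : Opp I (g • p) (g • q) := by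
  intro l hl
  have h1 := h.inv g⁻¹ _ _ hl.1
  have h2 := h.inv g⁻¹ _ _ hl.2
  rw [inv_smul_smul] at h1 h2
  exact ho _ ⟨h1, h2⟩

/-- `B p` fixes `p`?  `A l` fixes the points of `l`; the image of an opposite point is opposite -/
theorem opp_A {p q : Pt} {l : Ln} {a : Y} (hp : I p l) (ha : a ∈ A l) (ho : Opp I p q) : Opp I p (a • q) := by
  have h1 := h.opp_smul a ho
  rwa [h.fixP l a ha p hp] at h1

/-- a point not on `l` is collinear with a point of `l`, and `a ∈ A l` moves it on the joining line -/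
theorem proj {q : Pt} {l : Ln} (hq : ¬ I q l) : ∃ r m, I r l ∧ I r m ∧ I q m ∧ m ≠ l ∧ ∀ a ∈ A l, I (a • q) m := by
  obtain ⟨r, m, h1, h2, h3⟩ := h.gq q l
  refine ⟨r, m, h1, h2, h3, fun e => hq (e ▸ h3), fun a ha => ?_⟩
  have h4 := h.inv a _ _ h3
  rwa [h.fixL l a ha r m h1 h2] at h4

/-- **(7)** every point is on exactly two lines -/
theorem two {p : Pt} {l m n : Ln} (hl : I p l) (hm : I p m) (hn : I p n) (hlm : l ≠ m) : n = l ∨ n = m := by
  by_contra hcon
  push Not at hcon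
  obtain ⟨hnl, hnm⟩ := hcon
  obtain ⟨a, ha, c, hc, ha1, hc1, hca, hca1⟩ := h.dep p l m n hl hm hn hlm hnl.symm hnm.symm
  -- `s` on `l`, `q` on a second line `k` on `s`
  obtain ⟨s, hsp, hs⟩ := h.pt p l
  obtain ⟨k, hkl, hk⟩ := h.ex2 s l
  obtain ⟨q, hqs, hq⟩ := h.pt s k
  have hpk : ¬ I p k := fun h1 => hkl (h.one p s k l hsp.symm h1 hk hl hs)
  have hqp : q ≠ p := fun e => hpk (e ▸ hq)
  -- `q` is opposite `p`
  have ho : Opp I p q := by
    rintro j ⟨h1, h2⟩
    exact hkl (h.tri p s q l k j hsp.symm hqs.symm hqp.symm hl hs hk hq h1 h2).symm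
  have hql : ¬ I q l := fun h1 => ho l ⟨hl, h1⟩
  -- the three points
  have ho1 : Opp I p (a • q) := h.opp_A hl ha ho
  have hq1 : a • q ≠ q := h.semi p a (h.A_le p l hl ha) ha1 q ho
  have hq3 : (c * a) • q ≠ q := h.semi p _ (h.A_le p n hn hca) hca1 q ho
  have hq2 : c • (a • q) ≠ a • q := h.semi p c (h.A_le p m hm hc) hc1 _ ho1
  rw [mul_smul] at hq3
  -- `q` and `a • q` are on `k`
  have hk1 : I (a • q) k := by
    have h1 := h.inv a _ _ hq
    rwa [h.fixL l a ha s k hs hk] at h1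
  -- `a • q` and `c • a • q` are joined
  have hqm : ¬ I (a • q) m := fun h1 => ho1 m ⟨hm, h1⟩
  obtain ⟨r2, k2, h21, h22, h23, -, h24⟩ := h.proj hqm
  have h25 := h24 c hc
  -- `q` and `(c * a) • q` are joined
  have hqn : ¬ I q n := fun h1 => ho n ⟨hn, h1⟩
  obtain ⟨r3, k3, h31, h32, h33, -, h34⟩ := h.proj hqn
  have h35 := h34 _ hca
  rw [mul_smul] at h35
  -- no triangles: all on one line
  have e1 : k = k2 := h.tri q (a • q) (c • (a • q)) k k2 k3 hq1.symm hq2.symm hq3.symm hq hk1 h23 h25 h33 h35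
  subst e1
  have e2 : k3 = k := h.one q (c • (a • q)) k3 k hq3.symm h33 h35 hq h25
  subst e2
  -- `s` and `r3` on `k`, `p` joined to both
  have hr3p : r3 ≠ p := fun e => hpk (e ▸ h32)
  have hr3s : r3 ≠ s := by
    rintro rfl
    exact hnl (h.one p r3 n l hr3p.symm hn h31 hl hs)
  have := h.tri p s r3 l k3 n hsp.symm hr3s.symm hr3p.symm hl hs hk h32 hn h31
  exact hkl this.symm

end GQ

/-- equal or disjoint -/
def Par (I : Pt → Ln → Prop) (l m : Ln) : Prop := l = m ∨ ∀ p, ¬ (I p l ∧ I p m)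

theorem par_refl (l : Ln) : Par I l l := Or.inl rfl

theorem par_symm {l m : Ln} (hp : Par I l m) : Par I m l := by
  rcases hp with h | h
  · exact Or.inl h.symm
  · exact Or.inr fun p hp => h p ⟨hp.2, hp.1⟩

namespace GQ

variable (h : GQ I A B)
include h

theorem par_smul (g : Y) {l m : Ln} : Par I (g • l) (g • m) ↔ Par I l m := by
  constructor
  · rintro (h1 | h1)
    · exact Or.inl (smul_left_cancel g h1)
    · exact Or.inr fun p hp => h1 (g • p) ⟨h.inv g _ _ hp.1, h.inv g _ _ hp.2⟩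
  · rintro (h1 | h1)
    · exact Or.inl (by rw [h1])
    · refine Or.inr fun p hp => h1 (g⁻¹ • p) ⟨?_, ?_⟩
      · have := h.inv g⁻¹ _ _ hp.1
        rwa [inv_smul_smul] at this
      · have := h.inv g⁻¹ _ _ hp.2
        rwa [inv_smul_smul] at this

/-- **(8)** -/
theorem par_trans {l m n : Ln} (h1 : Par I l n) (h2 : Par I n m) : Par I l m := by
  rcases h1 with rfl | h1
  · exact h2
  rcases h2 with rfl | h2
  · exact Or.inr h1
  by_cases hlm : l = m
  · exact Or.inl hlm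
  right
  rintro p ⟨hl, hm⟩
  obtain ⟨q, k, h3, h4, h5⟩ := h.gq p n
  rcases h.two hl hm h5 hlm with rfl | rfl
  · exact h1 q ⟨h4, h3⟩
  · exact h2 q ⟨h3, h4⟩

/-- two lines on a point are not parallel; every line is parallel to one of them -/
theorem par_or {p : Pt} {l m : Ln} (hl : I p l) (hm : I p m) (hlm : l ≠ m) (n : Ln) : Par I l n ∨ Par I m n := by
  by_contra hcon
  push Not at hcon
  obtain ⟨h1, h2⟩ := hcon
  have h1' : l ≠ n ∧ ∃ q, I q l ∧ I q n := by
    refine ⟨fun e => h1 (Or.inl e), ?_⟩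
    by_contra hc
    push Not at hc
    exact h1 (Or.inr fun q hq => hc q hq.1 hq.2)
  have h2' : m ≠ n ∧ ∃ q, I q m ∧ I q n := by
    refine ⟨fun e => h2 (Or.inl e), ?_⟩
    by_contra hc
    push Not at hc
    exact h2 (Or.inr fun q hq => hc q hq.1 hq.2)
  obtain ⟨hln, q, hq1, hq2⟩ := h1'
  obtain ⟨hmn, r, hr1, hr2⟩ := h2'
  by_cases hpn : I p n
  · rcases h.two hl hm hpn hlm with e | e
    · exact hln e.symm
    · exact hmn e.symm
  · have hqp : q ≠ p := fun e => hpn (e ▸ hq2)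
    have hrp : r ≠ p := fun e => hpn (e ▸ hr2)
    have hqr : q ≠ r := by
      rintro rfl
      exact hqp (h.one' hlm hq1 hr1 hl hm)
    exact hln (h.tri p q r l n m hqp.symm hqr hrp.symm hl hq1 hq2 hr2 hm hr1)

omit h in
/-- the group generated by the `A l`, `l` parallel to `l₀` -/
def K (I : Pt → Ln → Prop) (A : Ln → Subgroup Y) (l₀ : Ln) : Subgroup Y := ⨆ (l : Ln) (_ : Par I l₀ l), A l

omit h in
theorem A_le_K {l₀ l : Ln} (hl : Par I l₀ l) : A l ≤ K I A l₀ := le_iSup₂_of_le l hl le_rfl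

/-- the stabiliser of the class of `l₀` -/
def Y0 (l₀ : Ln) : Subgroup Y where
  carrier := {g | Par I l₀ (g • l₀)}
  one_mem' := by
    show Par I l₀ ((1 : Y) • l₀)
    rw [one_smul]; exact par_refl _
  mul_mem' {g k} hg hk := by
    show Par I l₀ ((g * k) • l₀)
    rw [mul_smul]
    exact h.par_trans hg ((h.par_smul g).2 hk)
  inv_mem' {g} hg := by
    show Par I l₀ (g⁻¹ • l₀)
    have h1 : Par I (g⁻¹ • l₀) (g⁻¹ • g • l₀) := (h.par_smul g⁻¹).2 hg
    rw [inv_smul_smul] at h1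
    exact par_symm h1

theorem mem_Y0 {l₀ : Ln} {g : Y} : g ∈ h.Y0 l₀ ↔ Par I l₀ (g • l₀) := Iff.rfl

/-- `K` is normalised by the stabiliser of the class -/
theorem K_norm {l₀ : Ln} {g : Y} (hg : g ∈ h.Y0 l₀) {x : Y} (hx : x ∈ K I A l₀) : g * x * g⁻¹ ∈ K I A l₀ := by
  have h1 : K I A l₀ ≤ (K I A l₀).comap (MulAut.conj g).toMonoidHom := by
    refine iSup₂_le fun l hl a ha => ?_
    show g * a * g⁻¹ ∈ K I A l₀
    exact A_le_K (h.par_trans hg ((h.par_smul g).2 hl)) (h.conj g l a ha)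
  exact h1 hx

/-- `K l₀` fixes all lines not parallel to `l₀` -/
theorem fixL_K {l₀ m : Ln} (hm : ¬ Par I l₀ m) {x : Y} (hx : x ∈ K I A l₀) : x • m = m := by
  have h1 : K I A l₀ ≤ MulAction.stabilizer Y m := by
    refine iSup₂_le fun l hl a ha => ?_
    rw [MulAction.mem_stabilizer_iff]
    have h2 : ∃ q, I q l ∧ I q m := by
      by_contra hc
      push Not at hc
      exact hm (h.par_trans hl (Or.inr fun q hq => hc q hq.1 hq.2))
    obtain ⟨q, h3, h4⟩ := h2
    exact h.fixL l a ha q m h3 h4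
  exact MulAction.mem_stabilizer_iff.1 (h1 hx)

theorem not_par {p : Pt} {l m : Ln} (hl : I p l) (hm : I p m) (hlm : l ≠ m) : ¬ Par I l m := by
  rintro (h1 | h1)
  · exact hlm h1
  · exact h1 p ⟨hl, hm⟩

/-- `K₁ ⊓ K₂` fixes all points -/
theorem fix_of_mem {p : Pt} {l m : Ln} (hl : I p l) (hm : I p m) (hlm : l ≠ m) {x : Y} (h1 : x ∈ K I A l)
    (h2 : x ∈ K I A m) (q : Pt) : x • q = q := by
  have hL : ∀ n : Ln, x • n = n := by
    intro n
    by_cases hn : Par I l n
    · apply h.fixL_K (l₀ := m) _ h2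
      intro hmn
      exact h.not_par hl hm hlm (h.par_trans hn (par_symm hmn))
    · exact h.fixL_K hn h1
  obtain ⟨r, n, -, -, hn⟩ := h.gq q l
  obtain ⟨k, hkn, hk⟩ := h.ex2 q n
  have h3 := h.inv x _ _ hn
  have h4 := h.inv x _ _ hk
  rw [hL] at h3 h4
  exact h.one' hkn h4 h3 hk hn

/-- the stabiliser of the class of `l` is the stabiliser of the class of `m` -/
theorem Y0_eq {p : Pt} {l m : Ln} (hl : I p l) (hm : I p m) (hlm : l ≠ m) : h.Y0 l = h.Y0 m := by
  ext g
  rw [h.mem_Y0, h.mem_Y0]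
  have key : ∀ {l m : Ln}, I p l → I p m → l ≠ m → Par I l (g • l) → Par I m (g • m) := by
    intro l m hl hm hlm h1
    rcases h.par_or hl hm hlm (g • m) with h2 | h2
    · exfalso
      have h3 : Par I (g • l) (g • m) := h.par_trans (par_symm h1) h2
      exact h.not_par hl hm hlm ((h.par_smul g).1 h3)
    · exact h2
  exact ⟨key hl hm hlm, key hm hl hlm.symm⟩

/-- `Y0` has index at most two: a product of two elements outside is inside -/
theorem mul_mem_of_not {p : Pt} {l m : Ln} (hl : I p l) (hm : I p m) (hlm : l ≠ m) {g k : Y} (hg : g ∉ h.Y0 l)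
    (hk : k ∉ h.Y0 l) : g * k ∈ h.Y0 l := by
  have hk' : k ∉ h.Y0 l := hk
  rw [h.mem_Y0] at hg hk ⊢
  have h1 : Par I m (k • l) := (h.par_or hl hm hlm _).resolve_left hk
  have h2 : ¬ Par I m (g • m) := by
    intro h3
    have h4 : g ∈ h.Y0 m := h3
    rw [← h.Y0_eq hl hm hlm] at h4
    exact hg h4
  have h3 : Par I l (g • m) := (h.par_or hl hm hlm _).resolve_right h2
  rw [mul_smul]
  exact h.par_trans h3 ((h.par_smul g).2 h1)

theorem index_le {p : Pt} {l m : Ln} (hl : I p l) (hm : I p m) (hlm : l ≠ m) :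
    h.Y0 l = ⊤ ∨ (h.Y0 l).index = 2 := by
  by_cases htop : h.Y0 l = ⊤
  · exact Or.inl htop
  right
  rw [Subgroup.index_eq_two_iff]
  obtain ⟨g, hg⟩ : ∃ g, g ∉ h.Y0 l := by
    by_contra hc
    push Not at hc
    exact htop (eq_top_iff.2 fun g _ => hc g)
  refine ⟨g, fun k => ?_⟩
  by_cases hk : k ∈ h.Y0 l
  · right
    refine ⟨hk, fun h1 => hg ?_⟩
    have h2 := mul_mem (inv_mem hk) h1
    rwa [inv_mul_cancel_left] at h2
  · left
    exact ⟨h.mul_mem_of_not hl hm hlm hk hg, hk⟩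

end GQ

end Cfsg.Agent.Omega.NO1.Lines.Grid
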