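import Cfsg.Agent.Omega.NO1.Alpha.Defs

/-!
# N1-ONE, THEOREM LINES (helper806, #18965), (0): one `K`-linear member

`B` is a member with `|V / E_B| = |K|`, linear over the field `K`.

* `smul_F`, `smul_E`: `F_B`, `E_B` are `K`-subspaces; `line`: `V = K w + E_B` for `w ∉ E_B`;
* `Ks` : `K s`; `chg` : change of `w`;
* `KL` : the subgroup `K s_x` of `B`, of order `|K|` (`card_KL`), trivial on `x` (`KL_fix`);
* `triv` : a `K`-linear involution normalising `E_B` is trivial on `V / E_B`;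
* `nondeg` : without offenders `[E_B, s] ≠ 0` for `1 ≠ s ∈ B`.
-/

set_option autoImplicit false
set_option linter.unusedSectionVars false

namespace Cfsg.Agent.Omega.NO1.Lines

open Subgroup
open Cfsg.Agent.Omega.NO1.HE (dl dl_apply dl_one dl_eq_zero dl_comm dl_mul dl_self smul_eq add_eq_zero' mem_conj)
open Cfsg.Agent.Omega.NO1.Alpha

universe u v

variable {Y : Type u} [Group Y] {V : Type u} [AddCommGroup V] [DistribMulAction Y V]
variable {K : Type v} [Field K] [Module K V] {B : Subgroup Y}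

theorem k_two (h2 : ∀ v : V, v + v = 0) {v : V} (hv : v ≠ 0) (k : K) : k + k = 0 := by
  by_contra hk
  have h1 : (k + k) • v = 0 := by rw [add_smul, h2]
  exact hv ((smul_eq_zero.1 h1).resolve_left hk)

theorem dl_smul (lin : ∀ b ∈ B, ∀ (k : K) (v : V), b • (k • v) = k • (b • v)) {b : Y} (hb : b ∈ B) (k : K) (v : V) :
    dl b (k • v) = k • dl b v := by
  rw [dl_apply, dl_apply, smul_add, lin b hb]

theorem smul_F (lin : ∀ b ∈ B, ∀ (k : K) (v : V), b • (k • v) = k • (b • v)) {v : V} (hv : v ∈ FX V B) (k : K) :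
    k • v ∈ FX V B := fun b hb => by rw [lin b hb, hv b hb]

theorem smul_E (lin : ∀ b ∈ B, ∀ (k : K) (v : V), b • (k • v) = k • (b • v)) {v : V} (hv : v ∈ EX V B) (k : K) :
    k • v ∈ EX V B := fun b hb => by
  rw [dl_smul lin hb]
  exact smul_F lin (hv b hb) k

theorem of_smul_F (lin : ∀ b ∈ B, ∀ (k : K) (v : V), b • (k • v) = k • (b • v)) {v : V} {k : K} (hk : k ≠ 0)
    (hv : k • v ∈ FX V B) : v ∈ FX V B := by
  have h1 := smul_F lin hv k⁻¹
  rwa [inv_smul_smul₀ hk] at h1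

theorem of_smul_E (lin : ∀ b ∈ B, ∀ (k : K) (v : V), b • (k • v) = k • (b • v)) {v : V} {k : K} (hk : k ≠ 0)
    (hv : k • v ∈ EX V B) : v ∈ EX V B := by
  have h1 := smul_E lin hv k⁻¹
  rwa [inv_smul_smul₀ hk] at h1

/-- `V = K w + E` -/
theorem line [Finite K] (h : Mem V (Nat.card K) B)
    (lin : ∀ b ∈ B, ∀ (k : K) (v : V), b • (k • v) = k • (b • v)) (h2 : ∀ v : V, v + v = 0) {w : V}
    (hw : w ∉ EX V B) (v : V) : ∃ k : K, v + k • w ∈ EX V B := by
  have hi : (EX V B).index = Nat.card K := h.ind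
  have hc : Nat.card (V ⧸ EX V B) = Nat.card K := hi
  have hf : Finite (V ⧸ EX V B) := Nat.finite_of_card_ne_zero (by rw [hc]; exact Nat.card_pos.ne')
  let f : K → V ⧸ EX V B := fun k => QuotientAddGroup.mk (k • w)
  have hinj : Function.Injective f := by
    intro k k' hkk
    have h1 : -(k • w) + k' • w ∈ EX V B := QuotientAddGroup.eq.1 hkk
    rw [neg_add_eq_sub, ← sub_smul] at h1
    by_contra hne
    exact hw (of_smul_E lin (sub_ne_zero.2 (Ne.symm hne)) h1)
  obtain ⟨k, hk⟩ := (hinj.bijective_of_nat_card_le hc.le).2 (QuotientAddGroup.mk v)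
  refine ⟨k, ?_⟩
  have h1 : -(k • w) + v ∈ EX V B := QuotientAddGroup.eq.1 hk
  rwa [neg_eq_of_add_eq_zero_left (h2 _), add_comm] at h1

/-- `K s` -/
theorem Ks (h : Mem V (Nat.card K) B) (lin : ∀ b ∈ B, ∀ (k : K) (v : V), b • (k • v) = k • (b • v)) {w : V}
    (hw : w ∉ EX V B) {s : Y} (hs : s ∈ B) (k : K) : ∃ t ∈ B, dl t w + k • dl s w ∈ FX V B :=
  h.surj w hw _ (smul_E lin (h.VB s hs w) k)

/-- change of `w` -/
theorem chg [Finite K] (h : Mem V (Nat.card K) B)
    (lin : ∀ b ∈ B, ∀ (k : K) (v : V), b • (k • v) = k • (b • v)) (h2 : ∀ v : V, v + v = 0) {w v : V}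
    (hw : w ∉ EX V B) {s : Y} (hs : s ∈ B) {x : V} (hx : dl s w + x ∈ FX V B) :
    ∃ k : K, dl s v + k • x ∈ FX V B ∧ (v ∉ EX V B → k ≠ 0) := by
  obtain ⟨k, hk⟩ := line h lin h2 hw v
  refine ⟨k, ?_, ?_⟩
  · have h1 : dl s v + k • x = dl s (v + k • w) + k • (dl s w + x) := by
      rw [map_add, dl_smul lin hs, smul_add]
      have h3 := h2 (k • dl s w)
      calc dl s v + k • x = dl s v + (k • dl s w + k • dl s w) + k • x := by rw [h3, add_zero]
        _ = _ := by abel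
    rw [h1]
    exact (FX V B).add_mem (h.dlF hs hk) (smul_F lin hx k)
  · rintro hv rfl
    rw [zero_smul, add_zero] at hk
    exact hv hk

/-- `K s_x` -/
def KL (K : Type v) [Field K] [Module K V] (B : Subgroup Y) (h : Mem V (Nat.card K) B)
    (h2 : ∀ v : V, v + v = 0) (x : V) : Subgroup Y where
  carrier := {s | s ∈ B ∧ ∀ v : V, ∃ k : K, dl s v + k • x ∈ FX V B}
  one_mem' := ⟨B.one_mem, fun v => ⟨0, by rw [dl_one h2, zero_smul, add_zero]; exact (FX V B).zero_mem⟩⟩
  mul_mem' := by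
    rintro s t ⟨hs, hs'⟩ ⟨ht, ht'⟩
    refine ⟨B.mul_mem hs ht, fun v => ?_⟩
    obtain ⟨k, hk⟩ := hs' v
    obtain ⟨l, hl⟩ := ht' v
    refine ⟨k + l, ?_⟩
    rw [dl_mul h2, add_smul]
    have h1 : dl s v + dl t v + dl s (dl t v) + (k • x + l • x)
        = (dl s v + k • x) + (dl t v + l • x) + dl s (dl t v) := by abel
    rw [h1]
    exact (FX V B).add_mem ((FX V B).add_mem hk hl) (h.dlF hs (h.VB t ht v))
  inv_mem' := by
    rintro s ⟨hs, hs'⟩
    rw [h.inv_eq hs]
    exact ⟨hs, hs'⟩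

section KL

variable {h : Mem V (Nat.card K) B} (lin : ∀ b ∈ B, ∀ (k : K) (v : V), b • (k • v) = k • (b • v))
  {h2 : ∀ v : V, v + v = 0} {x : V}
include lin

omit lin in
theorem mem_KL {s : Y} : s ∈ KL K B h h2 x ↔ s ∈ B ∧ ∀ v : V, ∃ k : K, dl s v + k • x ∈ FX V B := Iff.rfl

omit lin in
theorem KL_le : KL K B h h2 x ≤ B := fun _ hs => hs.1

theorem mem_KL_of [Finite K] {w : V} (hw : w ∉ EX V B) {s : Y} (hs : s ∈ B) {k : K}
    (hk : dl s w + k • x ∈ FX V B) : s ∈ KL K B h h2 x := by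
  refine ⟨hs, fun v => ?_⟩
  obtain ⟨l, hl, -⟩ := chg (v := v) h lin h2 hw hs hk
  exact ⟨l * k, by rwa [mul_smul]⟩

/-- `s_x` -/
theorem exists_KL [Finite K] {w : V} (hw : w ∉ EX V B) (hx : x ∈ EX V B) (k : K) :
    ∃ s ∈ KL K B h h2 x, dl s w + k • x ∈ FX V B := by
  obtain ⟨s, hs, hf⟩ := h.surj w hw _ (smul_E lin hx k)
  exact ⟨s, mem_KL_of lin hw hs hf, hf⟩

/-- `[x, K s_x] = 0` -/
theorem KL_fix {s : Y} (hs : s ∈ KL K B h h2 x) : dl s x = 0 := by
  obtain ⟨w, hw⟩ := h.ne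
  obtain ⟨k, hk⟩ := hs.2 w
  have h1 := h.dl0 h2 hs.1 hk
  rw [map_add, dl_self h2 (h.sq s hs.1), zero_add, dl_smul lin hs.1] at h1
  by_cases hk0 : k = 0
  · rw [hk0, zero_smul, add_zero] at hk
    rw [h.inj w hw s hs.1 hk, dl_one h2]
  · exact (smul_eq_zero.1 h1).resolve_left hk0

theorem card_KL [Finite K] (hx : x ∈ EX V B) (hx' : x ∉ FX V B) :
    Nat.card (KL K B h h2 x) = Nat.card K := by
  obtain ⟨w, hw⟩ := h.ne
  have hex := fun k : K => exists_KL (h := h) lin (h2 := h2) hw hx k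
  choose s hs hs' using hex
  let f : K → KL K B h h2 x := fun k => ⟨s k, hs k⟩
  have hf : Function.Bijective f := by
    constructor
    · intro k k' hkk
      have e : s k = s k' := congrArg Subtype.val hkk
      have h1 := hs' k
      have h3 := hs' k'
      rw [← e] at h3
      have h4 := (FX V B).add_mem h1 h3
      have h5 : dl (s k) w + k • x + (dl (s k) w + k' • x) = (k + k') • x := by
        rw [add_smul]
        calc dl (s k) w + k • x + (dl (s k) w + k' • x) = (dl (s k) w + dl (s k) w) + (k • x + k' • x) := by abel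
          _ = _ := by rw [h2, zero_add]
      rw [h5] at h4
      by_contra hne
      refine hx' (of_smul_F lin (k := k + k') (fun h6 => hne ?_) h4)
      obtain ⟨v, hv⟩ := h.ne
      have h7 : v ≠ 0 := fun h8 => hv (h8 ▸ (EX V B).zero_mem)
      have h8 := k_two h2 h7 k'
      have h9 : k + k' = k' + k' := by rw [h6, h8]
      exact add_right_cancel h9
    · rintro ⟨t, ht⟩
      obtain ⟨k, hk⟩ := ht.2 w
      refine ⟨k, Subtype.ext ?_⟩
      have h1 := hs' k
      have h3 : s k * t = 1 := by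
        refine h.inj w hw _ (B.mul_mem (hs k).1 ht.1) ?_
        rw [dl_mul h2]
        have h5 : dl (s k) w + dl t w = (dl (s k) w + k • x) + (dl t w + k • x) := by
          calc dl (s k) w + dl t w = dl (s k) w + dl t w + (k • x + k • x) := by rw [h2, add_zero]
            _ = _ := by abel
        rw [h5]
        exact (FX V B).add_mem ((FX V B).add_mem h1 hk) (h.dlF (hs k).1 (h.VB t ht.1 w))
      have h4 : s k = t⁻¹ := eq_inv_of_mul_eq_one_left h3
      change s k = t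
      rw [h4, h.inv_eq ht.1]
  exact (Nat.card_congr (Equiv.ofBijective f hf)).symm

end KL

/-- `[v, s, t]` is symmetric modulo scalars: for `w, v ∉ E` -/
theorem exists_dl (h : Mem V (Nat.card K) B) (h2 : ∀ v : V, v + v = 0) {w : V}
    (hw : w ∉ EX V B) {x : V} (hx : x ∈ EX V B) : ∃ s ∈ B, dl s w + x ∈ FX V B ∧
      ∀ b ∈ B, dl b x = dl s (dl b w) := by
  obtain ⟨s, hs, hf⟩ := h.surj w hw x hx
  refine ⟨s, hs, hf, fun b hb => ?_⟩
  have h1 := h.dl0 h2 hb hf
  rw [map_add] at h1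
  have h3 := (add_eq_zero' h2).1 h1
  rw [← h3]
  exact dl_comm (h.comm b hb s hs) w

/-- a `K`-linear involution normalising `E` is trivial on `V / E` -/
theorem triv [Finite K] (h : Mem V (Nat.card K) B)
    (lin : ∀ b ∈ B, ∀ (k : K) (v : V), b • (k • v) = k • (b • v)) (h2 : ∀ v : V, v + v = 0) {y : Y}
    (hy : y * y = 1) (hlin : ∀ (k : K) (v : V), y • (k • v) = k • (y • v))
    (hE : ∀ v ∈ EX V B, y • v ∈ EX V B) (v : V) : dl y v ∈ EX V B := by
  obtain ⟨w, hw⟩ := h.ne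
  have hw0 : w ≠ 0 := fun h8 => hw (h8 ▸ (EX V B).zero_mem)
  obtain ⟨k, hk⟩ := line h lin h2 hw (y • w)
  -- `w ≡ k² w`
  have h1 := hE _ hk
  rw [smul_add, ← mul_smul, hy, one_smul, hlin] at h1
  have h3 : w + (k * k) • w ∈ EX V B := by
    have h4 : w + (k * k) • w = (w + k • (y • w)) + k • (y • w + k • w) := by
      rw [smul_add, ← mul_smul]
      calc w + (k * k) • w = w + (k • (y • w) + k • (y • w)) + (k * k) • w := by rw [h2, add_zero]
        _ = _ := by abel
    rw [h4]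
    exact (EX V B).add_mem h1 (smul_E lin hk k)
  have h5 : (1 + k * k) • w ∈ EX V B := by rwa [add_smul, one_smul]
  have h6 : 1 + k * k = 0 := by
    by_contra hne
    exact hw (of_smul_E lin hne h5)
  have hkk := k_two h2 hw0 (1 : K)
  have h7 : (1 + k) * (1 + k) = 0 := by
    have h8 := k_two h2 hw0 k
    calc (1 + k) * (1 + k) = (1 + k * k) + (k + k) := by ring
      _ = 0 := by rw [h6, h8, add_zero]
  have h8 : k = 1 := by
    have h9 : 1 + k = 0 := by simpa using h7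
    have h10 : (1 : K) + k = 1 + 1 := by rw [h9, hkk]
    exact add_left_cancel h10
  rw [h8, one_smul] at hk
  obtain ⟨l, hl⟩ := line h lin h2 hw v
  have h9 : dl y v = dl y (v + l • w) + l • (y • w + w) := by
    rw [map_add, dl_apply y (l • w), hlin, ← smul_add, add_assoc, h2, add_zero]
  rw [h9]
  refine (EX V B).add_mem ?_ (smul_E lin hk l)
  rw [dl_apply]
  exact (EX V B).add_mem (hE _ hl) hl

/-- nondegeneracy -/
theorem nondeg [Finite K] [Finite Y] [Finite V] (h : Mem V (Nat.card K) B)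
    (lin : ∀ b ∈ B, ∀ (k : K) (v : V), b • (k • v) = k • (b • v)) (h2 : ∀ v : V, v + v = 0)
    (noff : ∀ A : Subgroup Y, (∀ x ∈ A, ∀ y ∈ A, x * y = y * x) → (∀ x ∈ A, x * x = 1) → A ≠ ⊥ →
      Nat.card A < (FX V A).index) {s : Y} (hs : s ∈ B) (h1 : s ≠ 1) : ∃ e ∈ EX V B, dl s e ≠ 0 := by
  by_contra hcon
  push Not at hcon
  obtain ⟨w, hw⟩ := h.ne
  have hx : dl s w ∈ EX V B := h.VB s hs w
  have hx' : dl s w ∉ FX V B := fun h3 => h1 (h.inj w hw s hs h3)
  have hcard := card_KL (h := h) lin (h2 := h2) hx hx'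
  set A := KL K B h h2 (dl s w) with hA
  have hsA : s ∈ A := mem_KL_of lin hw hs (k := 1) (by rw [one_smul, h2]; exact (FX V B).zero_mem)
  -- `E ≤ C_V(A)`
  have hEA : EX V B ≤ FX V A := by
    intro e he t ht
    rw [← dl_eq_zero h2]
    obtain ⟨k, hk⟩ := ht.2 w
    obtain ⟨b, hb, hf, hbe⟩ := exists_dl h h2 hw he
    rw [hbe t ht.1, dl_comm (h.comm b hb t ht.1)]
    rw [dl_comm (h.comm t ht.1 b hb)]
    have h3 : dl b (dl t w) = k • dl b (dl s w) := by
      have h4 := h.dl0 h2 hb hk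
      rw [map_add, dl_smul lin hb] at h4
      exact (add_eq_zero' h2).1 h4
    have h4 : dl b (dl s w) = 0 := by
      rw [dl_comm (h.comm b hb s hs)]
      exact hcon _ (h.VB b hb w)
    rw [h3, h4, smul_zero]
  have h3 : (FX V A).index ≤ (EX V B).index := by
    refine Nat.le_of_dvd (Nat.pos_of_ne_zero ?_) (AddSubgroup.index_dvd_of_le hEA)
    exact AddSubgroup.index_ne_zero_of_finite
  have h4 := noff A (fun x hx y hy => h.comm x hx.1 y hy.1) (fun x hx => h.sq x hx.1) (fun h5 => h1 (by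
      have h6 : s ∈ (⊥ : Subgroup Y) := h5 ▸ hsA
      exact Subgroup.mem_bot.1 h6))
  rw [hcard] at h4
  have h5 : (EX V B).index = Nat.card K := h.ind
  omega

end Cfsg.Agent.Omega.NO1.Lines
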