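import Mathlib.LinearAlgebra.Matrix.Notation
import Mathlib.Algebra.CharP.Two
import Mathlib.FieldTheory.Finite.Basic
import Mathlib.SetTheory.Cardinal.Finite
import Mathlib.Tactic

/-!
# N1-ONE, THEOREM LINES (helper806, #18965), (2): the matrix part

`K` a finite field of characteristic 2 with more than two elements, `Lam` an additive subgroup of `M_2(K)` of order
less than `|K|^2`, invariant under conjugation by the elementary matrices, containing for every `k` some
`k + c e_12`.  Then `Lam` is the group of scalar matrices.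
-/

set_option autoImplicit false
set_option linter.unusedSectionVars false

namespace Cfsg.Agent.Omega.NO1.Lines

open Matrix

variable {K : Type*} [Field K] [CharP K 2]

theorem conjU (mu p q r s : K) : !![1, mu; 0, 1] * !![p, q; r, s] * !![1, mu; 0, 1] + !![p, q; r, s]
    = !![mu * r, mu * (p + s) + mu * mu * r; 0, mu * r] := by
  have h2 : ∀ x : K, x + x = 0 := fun x => CharTwo.add_self_eq_zero x
  rw [Matrix.mul_fin_two, Matrix.mul_fin_two]
  ext i j
  fin_cases i <;> fin_cases j <;> simp
  · linear_combination h2 p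
  · linear_combination h2 q
  · linear_combination h2 r
  · linear_combination h2 s

theorem conjL (mu p q r s : K) : !![1, 0; mu, 1] * !![p, q; r, s] * !![1, 0; mu, 1] + !![p, q; r, s]
    = !![mu * q, 0; mu * (p + s) + mu * mu * q, mu * q] := by
  have h2 : ∀ x : K, x + x = 0 := fun x => CharTwo.add_self_eq_zero x
  rw [Matrix.mul_fin_two, Matrix.mul_fin_two]
  ext i j
  fin_cases i <;> fin_cases j <;> simp
  · linear_combination h2 p
  · linear_combination h2 q
  · linear_combination h2 r
  · linear_combination h2 s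

theorem card_lowU [Finite K] (Lam : AddSubgroup (Matrix (Fin 2) (Fin 2) K))
    (h : ∀ k c : K, !![k, c; 0, k] ∈ Lam) : Nat.card K ^ 2 ≤ Nat.card Lam := by
  have h1 : Function.Injective (fun x : K × K => (⟨!![x.1, x.2; 0, x.1], h x.1 x.2⟩ : Lam)) := by
    intro x y hxy
    have e := congrArg Subtype.val hxy
    have e1 := congrFun (congrFun e 0) 0
    have e2 := congrFun (congrFun e 0) 1
    exact Prod.ext (by simpa using e1) (by simpa using e2)
  have h2 := Nat.card_le_card_of_injective _ h1
  rwa [Nat.card_prod, ← sq] at h2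

theorem card_lowL [Finite K] (Lam : AddSubgroup (Matrix (Fin 2) (Fin 2) K))
    (h : ∀ k c : K, !![k, 0; c, k] ∈ Lam) : Nat.card K ^ 2 ≤ Nat.card Lam := by
  have h1 : Function.Injective (fun x : K × K => (⟨!![x.1, 0; x.2, x.1], h x.1 x.2⟩ : Lam)) := by
    intro x y hxy
    have e := congrArg Subtype.val hxy
    have e1 := congrFun (congrFun e 0) 0
    have e2 := congrFun (congrFun e 1) 0
    exact Prod.ext (by simpa using e1) (by simpa using e2)
  have h2 := Nat.card_le_card_of_injective _ h1
  rwa [Nat.card_prod, ← sq] at h2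

/-- a third element of a field with more than two elements -/
theorem exists_third [Finite K] (hK : 2 < Nat.card K) (d : K) : ∃ mu : K, mu ≠ 0 ∧ mu ≠ d := by
  classical
  have := Fintype.ofFinite K
  by_contra hcon
  push Not at hcon
  have h1 : (Finset.univ : Finset K) ⊆ {0, d} := by
    intro x _
    by_cases hx : x = 0
    · simp [hx]
    · simp [hcon x hx]
  have h2 := (Finset.card_le_card h1).trans (Finset.card_insert_le _ _)
  rw [Finset.card_univ, Finset.card_singleton, ← Nat.card_eq_fintype_card] at h2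
  omega

/-- every element of a finite field of characteristic two is a square -/
theorem exists_sq [Finite K] (x : K) : ∃ y : K, y * y = x := by
  obtain ⟨y, hy⟩ := FiniteField.isSquare_of_char_two (ringChar.eq K 2) x
  exact ⟨y, hy.symm⟩

/-- **(2)** of #18965 -/
theorem mat_scalars [Finite K] (hK : 2 < Nat.card K) (Lam : AddSubgroup (Matrix (Fin 2) (Fin 2) K))
    (hcard : Nat.card Lam < Nat.card K ^ 2)
    (hU : ∀ (mu : K) (m : Matrix (Fin 2) (Fin 2) K), m ∈ Lam → !![1, mu; 0, 1] * m * !![1, mu; 0, 1] ∈ Lam)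
    (hL : ∀ (mu : K) (m : Matrix (Fin 2) (Fin 2) K), m ∈ Lam → !![1, 0; mu, 1] * m * !![1, 0; mu, 1] ∈ Lam)
    (hk : ∀ k : K, ∃ c : K, !![k, c; 0, k] ∈ Lam) (m : Matrix (Fin 2) (Fin 2) K) :
    m ∈ Lam ↔ ∃ k : K, m = !![k, 0; 0, k] := by
  have h2 : ∀ x : K, x + x = 0 := fun x => CharTwo.add_self_eq_zero x
  -- the two commutator formulas
  have dU : ∀ mu p q r s : K, !![p, q; r, s] ∈ Lam →
      !![mu * r, mu * (p + s) + mu * mu * r; 0, mu * r] ∈ Lam := by
    intro mu p q r s h
    rw [← conjU mu p q r s]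
    exact Lam.add_mem (hU mu _ h) h
  have dL : ∀ mu p q r s : K, !![p, q; r, s] ∈ Lam →
      !![mu * q, 0; mu * (p + s) + mu * mu * q, mu * q] ∈ Lam := by
    intro mu p q r s h
    rw [← conjL mu p q r s]
    exact Lam.add_mem (hL mu _ h) h
  have cst : ∀ p q r s p' q' r' s' : K, !![p, q; r, s] ∈ Lam → p' = p → q' = q → r' = r → s' = s →
      !![p', q'; r', s'] ∈ Lam := by
    rintro p q r s _ _ _ _ h rfl rfl rfl rfl
    exact h
  have add : ∀ p q r s p' q' r' s' : K, !![p, q; r, s] ∈ Lam → !![p', q'; r', s'] ∈ Lam →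
      !![p + p', q + q'; r + r', s + s'] ∈ Lam := by
    intro p q r s p' q' r' s' h h'
    have e : !![p + p', q + q'; r + r', s + s'] = !![p, q; r, s] + !![p', q'; r', s'] := by
      ext i j
      fin_cases i <;> fin_cases j <;> rfl
    rw [e]
    exact Lam.add_mem h h'
  -- the scalars are in `Lam`
  have hs : ∀ k : K, !![k, 0; 0, k] ∈ Lam := by
    by_contra hcon
    push Not at hcon
    obtain ⟨k, hk0⟩ := hcon
    obtain ⟨c, hc⟩ := hk k
    have hc0 : c ≠ 0 := by
      rintro rfl
      exact hk0 hc
    -- `t (rho + rho^2 e_12)`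
    have h3 : ∀ t rho : K, !![t * rho, t * rho * rho; 0, t * rho] ∈ Lam := by
      intro t rho
      obtain ⟨mu, hmu⟩ := exists_sq (t / c)
      have h4 := dU rho _ _ _ _ (dL mu _ _ _ _ hc)
      have e1 : mu * mu * c = t := by rw [hmu, div_mul_cancel₀ _ hc0]
      refine cst _ _ _ _ _ _ _ _ h4 ?_ ?_ rfl ?_
      · linear_combination rho * mu * h2 k - rho * e1 - rho * mu * h2 k - rho * mu * h2 k
      · linear_combination (-rho * rho * mu) * h2 k - rho * rho * e1 - rho * mu * h2 c
      · linear_combination (-rho * mu) * h2 k - rho * e1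
    -- two values of `rho`
    obtain ⟨rho, hr0, hr1⟩ := exists_third hK 1
    have h5 : ∀ t : K, !![0, t; 0, 0] ∈ Lam := by
      intro t
      have hd : rho + 1 ≠ 0 := by
        intro h
        apply hr1
        linear_combination h - h2 1
      have h6 := add _ _ _ _ _ _ _ _ (h3 (t / (rho + 1) / rho) rho) (h3 (t / (rho + 1)) 1)
      have e0 : t / (rho + 1) / rho * rho = t / (rho + 1) := div_mul_cancel₀ _ hr0
      have e1 : t / (rho + 1) * (rho + 1) = t := div_mul_cancel₀ _ hd
      refine cst _ _ _ _ _ _ _ _ h6 ?_ ?_ ?_ ?_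
      · linear_combination (-1 : K) * e0 - h2 (t / (rho + 1))
      · linear_combination (-rho) * e0 - e1
      · ring
      · linear_combination (-1 : K) * e0 - h2 (t / (rho + 1))
    refine absurd (card_lowU Lam fun k c => ?_) (not_le.2 hcard)
    refine cst _ _ _ _ _ _ _ _ (add _ _ _ _ _ _ _ _ (h3 k 1) (h5 (k + c))) ?_ ?_ ?_ ?_
    · ring
    · linear_combination (-1 : K) * h2 k
    · ring
    · ring
  constructor
  · intro hm
    obtain ⟨p, q, r, s, rfl⟩ : ∃ p q r s : K, m = !![p, q; r, s] :=
      ⟨m 0 0, m 0 1, m 1 0, m 1 1, by ext i j; fin_cases i <;> fin_cases j <;> rfl⟩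
    -- an upper or lower element kills
    have kU : ∀ c : K, c ≠ 0 → ¬ !![0, c; 0, 0] ∈ Lam := by
      intro c hc0 hc
      refine absurd (card_lowL Lam fun k d => ?_) (not_le.2 hcard)
      obtain ⟨mu, hmu⟩ := exists_sq (d / c)
      have e1 : mu * mu * c = d := by rw [hmu, div_mul_cancel₀ _ hc0]
      have h3 := add _ _ _ _ _ _ _ _ (dL mu _ _ _ _ hc) (hs (k + mu * c))
      refine cst _ _ _ _ _ _ _ _ h3 ?_ ?_ ?_ ?_
      · linear_combination (-1 : K) * h2 (mu * c)
      · ring
      · linear_combination (-1 : K) * e1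
      · linear_combination (-1 : K) * h2 (mu * c)
    have kL : ∀ c : K, c ≠ 0 → ¬ !![0, 0; c, 0] ∈ Lam := by
      intro c hc0 hc
      refine absurd (card_lowU Lam fun k d => ?_) (not_le.2 hcard)
      obtain ⟨mu, hmu⟩ := exists_sq (d / c)
      have e1 : mu * mu * c = d := by rw [hmu, div_mul_cancel₀ _ hc0]
      have h3 := add _ _ _ _ _ _ _ _ (dU mu _ _ _ _ hc) (hs (k + mu * c))
      refine cst _ _ _ _ _ _ _ _ h3 ?_ ?_ ?_ ?_
      · linear_combination (-1 : K) * h2 (mu * c)
      · linear_combination (-1 : K) * e1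
      · ring
      · linear_combination (-1 : K) * h2 (mu * c)
    -- `mu tr + mu^2 r`
    have f1 : ∀ mu : K, mu * (p + s) + mu * mu * r = 0 := by
      intro mu
      by_contra hne
      refine kU _ hne (cst _ _ _ _ _ _ _ _ (add _ _ _ _ _ _ _ _ (dU mu _ _ _ _ hm) (hs (mu * r))) ?_ ?_ ?_ ?_)
      · rw [h2]
      · ring
      · ring
      · rw [h2]
    have f2 : ∀ mu : K, mu * (p + s) + mu * mu * q = 0 := by
      intro mu
      by_contra hne
      refine kL _ hne (cst _ _ _ _ _ _ _ _ (add _ _ _ _ _ _ _ _ (dL mu _ _ _ _ hm) (hs (mu * q))) ?_ ?_ ?_ ?_)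
      · rw [h2]
      · ring
      · ring
      · rw [h2]
    obtain ⟨rho, hr0, hr1⟩ := exists_third hK 1
    have g : ∀ x : K, (∀ mu : K, mu * (p + s) + mu * mu * x = 0) → p + s = 0 ∧ x = 0 := by
      intro x hx
      have h3 : p + s + x = 0 := by
        have := hx 1
        linear_combination this
      have h4 : rho * ((rho + 1) * x) = 0 := by
        have := hx rho
        linear_combination this - rho * h3 + rho * h2 x
      have hd : rho + 1 ≠ 0 := by
        intro h
        apply hr1
        linear_combination h - h2 1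
      have h5 : x = 0 := by
        rcases mul_eq_zero.1 h4 with h | h
        · exact absurd h hr0
        · rcases mul_eq_zero.1 h with h | h
          · exact absurd h hd
          · exact h
      refine ⟨?_, h5⟩
      rw [h5, add_zero] at h3
      exact h3
    obtain ⟨g1, g2⟩ := g r f1
    obtain ⟨-, g3⟩ := g q f2
    refine ⟨p, ?_⟩
    have e : s = p := by linear_combination g1 - h2 p
    rw [g2, g3, e]
  · rintro ⟨k, rfl⟩
    exact hs k

end Cfsg.Agent.Omega.NO1.Lines
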