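import Cfsg.Agent.Omega.NO1.Lines.Base
import Cfsg.Agent.Omega.NO1.Lines.Mat

/-!
# N1-ONE, THEOREM LINES (helper806, #18965), (1) and (2): a bad pair

`KM K V B` : a `K`-linear member with `|F_B| = |K|`.
`PD K V B C` : the data of a bad pair.  `I = E_B ∩ E_C`, `l = F_B + F_C`, `B₀ = {b ∈ B : [V,b] ≤ E_C}`.

* `PD.ind` : `|B| = a |B₀|`; `PD.cent_eq` : `B₀ = C_B(x)`, `x ∈ F_C#`;
* `PD.HH_le` : `HH(I) ≤ B`; `PD.HH_form` : `HH(I) = {1 + k(s-1)}`; `PD.card_HH : |HH(I)| = a`.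
-/

set_option autoImplicit false
set_option linter.unusedSectionVars false

namespace Cfsg.Agent.Omega.NO1.Lines

open Subgroup
open Cfsg.Agent.Omega.NO1.HE (dl dl_apply dl_one dl_eq_zero dl_comm dl_mul dl_self add_eq_zero' mem_conj smul_eq)
open Cfsg.Agent.Omega.NO1.Alpha (FX EX Mem mem_FX mem_EX smul_mem_FX smul_mem_EX dl_conj conj_eq_iff FX_anti)
open scoped Pointwise

universe u

/-- counting with a homomorphism into an additive group -/
theorem card_hom {Y A : Type u} [Group Y] [AddCommGroup A] (B : Subgroup Y) (f : B → A)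
    (hf : ∀ b c : B, f (b * c) = f b + f c) (hs : Function.Surjective f) (D : Subgroup Y)
    (hD : ∀ b, b ∈ D ↔ ∃ hb : b ∈ B, f ⟨b, hb⟩ = 0) : Nat.card B = Nat.card A * Nat.card D := by
  let F : B →* Multiplicative A := MonoidHom.mk' (fun b => Multiplicative.ofAdd (f b)) (by
    intro b c
    rw [hf, ofAdd_add])
  have hF : Function.Surjective F := fun x => by
    obtain ⟨b, hb⟩ := hs (Multiplicative.toAdd x)
    exact ⟨b, (congrArg Multiplicative.ofAdd hb).trans rfl⟩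
  have h1 := Subgroup.card_eq_card_quotient_mul_card_subgroup F.ker
  have h2 : Nat.card (B ⧸ F.ker) = Nat.card A :=
    Nat.card_congr (QuotientGroup.quotientKerEquivOfSurjective F hF).toEquiv
  have h3 : F.ker = D.subgroupOf B := by
    ext b
    rw [MonoidHom.mem_ker, Subgroup.mem_subgroupOf, hD]
    constructor
    · intro h
      exact ⟨b.2, Multiplicative.ofAdd.injective h⟩
    · rintro ⟨_, h⟩
      exact congrArg Multiplicative.ofAdd h
  have h4 : D ≤ B := fun b hb => ((hD b).1 hb).1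
  rw [h1, h2, h3, Nat.card_congr (Subgroup.subgroupOfEquivOfLe h4).toEquiv]

section tr

variable {Y : Type u} [Group Y] (V : Type u) [AddCommGroup V] [DistribMulAction Y V]

/-- `{y : [V, y] ≤ P}` -/
def TR (h2 : ∀ v : V, v + v = 0) (P : AddSubgroup V) : Subgroup Y where
  carrier := {y | ∀ v : V, dl y v ∈ P}
  one_mem' := fun v => by rw [dl_one h2]; exact P.zero_mem
  mul_mem' := by
    intro y z hy hz v
    rw [dl_mul h2]
    exact P.add_mem (P.add_mem (hy v) (hz v)) (hy _)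
  inv_mem' := by
    intro y hy v
    have h1 := hy (y⁻¹ • v)
    rw [dl_apply, smul_inv_smul, add_comm] at h1
    exact h1

variable {V}

theorem mem_TR (h2 : ∀ v : V, v + v = 0) {P : AddSubgroup V} {y : Y} : y ∈ TR V h2 P ↔ ∀ v : V, dl y v ∈ P := Iff.rfl

end tr

variable {K V Y : Type u} [Field K] [AddCommGroup V] [Module K V] [Group Y] [DistribMulAction Y V]

variable (K V) in
/-- a `K`-linear member -/
structure KM (B : Subgroup Y) : Prop where
  finK : Finite K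
  finV : Finite V
  finY : Finite Y
  char : CharP K 2
  two : ∀ v : V, v + v = 0
  lin : ∀ b ∈ B, ∀ (k : K) (v : V), b • (k • v) = k • (b • v)
  mem : Mem V (Nat.card K) B
  cardF : Nat.card (FX V B) = Nat.card K

namespace KM

variable {B : Subgroup Y}

theorem smulF (h : KM K V B) {x : V} (hx : x ∈ FX V B) (k : K) : k • x ∈ FX V B := fun b hb => by
  rw [h.lin b hb, hx b hb]

theorem dl_smul (h : KM K V B) {b : Y} (hb : b ∈ B) (k : K) (v : V) : dl b (k • v) = k • dl b v := by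
  rw [dl_apply, dl_apply, h.lin b hb, smul_add]

theorem smulE (h : KM K V B) {x : V} (hx : x ∈ EX V B) (k : K) : k • x ∈ EX V B := fun b hb => by
  rw [h.dl_smul hb]; exact h.smulF (hx b hb) k

theorem neg_eq (h2 : ∀ v : V, v + v = 0) (v : V) : -v = v := neg_eq_of_add_eq_zero_left (h2 v)

/-- `V / E` is a `K`-point -/
theorem exk (h : KM K V B) {w : V} (hw : w ∉ EX V B) (v : V) : ∃ k : K, v + k • w ∈ EX V B := by
  have := h.finK
  have := h.finV
  have hinj : Function.Injective (fun k : K => (QuotientAddGroup.mk (k • w) : V ⧸ EX V B)) := by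
    intro k k' hkk
    have h1 : -(k • w) + k' • w ∈ EX V B := QuotientAddGroup.eq.1 hkk
    rw [← neg_smul, ← add_smul] at h1
    by_contra hne
    apply hw
    have h3 : -k + k' ≠ 0 := fun h0 => hne (neg_add_eq_zero.1 h0)
    have h4 := h.smulE h1 (-k + k')⁻¹
    rwa [inv_smul_smul₀ h3] at h4
  have hcard : Nat.card (V ⧸ EX V B) ≤ Nat.card K := le_of_eq h.mem.ind
  obtain ⟨k, hk⟩ := (hinj.bijective_of_nat_card_le hcard).2 (QuotientAddGroup.mk v)
  refine ⟨k, ?_⟩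
  have h1 : -(k • w) + v ∈ EX V B := QuotientAddGroup.eq.1 hk
  rwa [neg_eq h.two, add_comm] at h1

/-- `F` is a `K`-point -/
theorem exF (h : KM K V B) {x y : V} (hx : x ∈ FX V B) (hx0 : x ≠ 0) (hy : y ∈ FX V B) : ∃ k : K, y = k • x := by
  have := h.finK
  have := h.finV
  have hinj : Function.Injective (fun k : K => (⟨k • x, h.smulF hx k⟩ : FX V B)) := by
    intro k k' hkk
    have h1 : k • x = k' • x := congrArg Subtype.val hkk
    have h2 : (k - k') • x = 0 := by rw [sub_smul, h1, sub_self]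
    rcases smul_eq_zero.1 h2 with h3 | h3
    · exact sub_eq_zero.1 h3
    · exact absurd h3 hx0
  obtain ⟨k, hk⟩ := (hinj.bijective_of_nat_card_le (le_of_eq h.cardF)).2 ⟨y, hy⟩
  exact ⟨k, (congrArg Subtype.val hk).symm⟩

theorem surj (h : KM K V B) {w : V} (hw : w ∉ EX V B) {e : V} (he : e ∈ EX V B) :
    ∃ b ∈ B, ∃ f ∈ FX V B, e = dl b w + f := by
  obtain ⟨b, hb, hf⟩ := h.mem.surj w hw e he
  refine ⟨b, hb, _, hf, ?_⟩
  rw [← add_assoc, h.two, zero_add]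

theorem dlF (h : KM K V B) {b : Y} (hb : b ∈ B) {f : V} (hf : f ∈ FX V B) : dl b f = 0 :=
  h.mem.dl0 h.two hb hf

/-- `[x, B] = F` for `x ∈ E - F` -/
theorem exb (h : KM K V B) {x : V} (hx : x ∈ EX V B) (hxF : x ∉ FX V B) {f : V} (hf : f ∈ FX V B) :
    ∃ b ∈ B, dl b x = f := by
  obtain ⟨w, hw⟩ := h.mem.ne
  obtain ⟨s, hs, g, hg, e1⟩ := h.surj hw hx
  obtain ⟨c, hc, hcx⟩ : ∃ c ∈ B, dl c x ≠ 0 := by
    by_contra hcon
    push Not at hcon
    exact hxF fun c hc => (dl_eq_zero h.two).1 (hcon c hc)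
  obtain ⟨k, hk⟩ := h.exF (hx c hc) hcx hf
  have e2 : dl c x = dl s (dl c w) := by
    rw [e1, map_add, h.dlF hc hg, add_zero, dl_comm (h.mem.comm c hc s hs)]
  obtain ⟨b, hb, g', hg', e3⟩ := h.surj hw (h.smulE (h.mem.VB c hc w) k)
  refine ⟨b, hb, ?_⟩
  rw [hk, e2, ← h.dl_smul hs, e3, map_add, h.dlF hs hg', add_zero, e1, map_add, h.dlF hb hg, add_zero,
    dl_comm (h.mem.comm b hb s hs)]

end KM

variable (K V) in
/-- the data of a bad pair -/
structure PD (B C : Subgroup Y) : Prop where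
  kB : KM K V B
  kC : KM K V C
  four : 4 ≤ Nat.card K
  faith : ∀ y : Y, (∀ v : V, y • v = v) → y = 1
  semi : ∀ y : Y, ∃ σ : K ≃+* K, ∀ (k : K) (v : V), y • (k • v) = σ k • (y • v)
  noff : ∀ A : Subgroup Y, (∀ a ∈ A, ∀ b ∈ A, a * b = b * a) → (∀ a ∈ A, a * a = 1) → A ≠ ⊥ →
    Nat.card A < (FX V A).index
  ne : EX V B ≠ EX V C
  FE : FX V B ≤ EX V C
  FE' : FX V C ≤ EX V B
  dis : ∀ x ∈ FX V B, x ∈ FX V C → x = 0
  bad : ∀ x ∈ FX V B, x ≠ 0 → ∀ y : Y, y • x = x → EX V (MulAut.conj y • B) = EX V B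
  bad' : ∀ x ∈ FX V C, x ≠ 0 → ∀ y : Y, y • x = x → EX V (MulAut.conj y • C) = EX V C

namespace PD

variable {B C : Subgroup Y}

theorem symm (h : PD K V B C) : PD K V C B where
  kB := h.kC
  kC := h.kB
  four := h.four
  faith := h.faith
  semi := h.semi
  noff := h.noff
  ne := h.ne.symm
  FE := h.FE'
  FE' := h.FE
  dis := fun x hx hx' => h.dis x hx' hx
  bad := h.bad'
  bad' := h.bad

theorem two (h : PD K V B C) (v : V) : v + v = 0 := h.kB.two v

theorem nle (h : PD K V B C) : ∃ e ∈ EX V B, e ∉ EX V C := by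
  have := h.kB.finV
  have := h.kB.finK
  by_contra hcon
  push Not at hcon
  have hle : EX V B ≤ EX V C := hcon
  have h1 := AddSubgroup.relIndex_mul_index hle
  rw [h.kB.mem.ind, h.kC.mem.ind] at h1
  have h4 := h.four
  have h2 : (EX V B).relIndex (EX V C) = 1 := by
    have h3 : (EX V B).relIndex (EX V C) * Nat.card K = 1 * Nat.card K := by rw [h1, one_mul]
    exact Nat.eq_of_mul_eq_mul_right (by omega) h3
  exact h.ne (le_antisymm hle (AddSubgroup.relIndex_eq_one.1 h2))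

/-- an element of `B` normalising `E_C` is trivial on `V / E_C` -/
theorem tr_of_norm (h : PD K V B C) {b : Y} (hb : b ∈ B) (hn : EX V (MulAut.conj b • C) = EX V C) (v : V) :
    dl b v ∈ EX V C := by
  have := h.kB.char
  have hN : ∀ x : V, b • x ∈ EX V C ↔ x ∈ EX V C := by
    intro x
    have h1 := smul_mem_EX (g := b) (B := C) (v := x)
    rwa [hn] at h1
  by_cases hv : v ∈ EX V C
  · rw [dl_apply]
    exact add_mem ((hN v).2 hv) hv
  · obtain ⟨k, hk⟩ := h.kC.exk hv (b • v)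
    have h1 := (hN _).2 hk
    rw [smul_add, ← mul_smul, h.kB.mem.sq b hb, one_smul, h.kB.lin b hb] at h1
    have h2 := add_mem h1 (h.kC.smulE hk k)
    have h3 : v + k • b • v + k • (b • v + k • v) = (1 + k * k) • v := by
      rw [smul_add, add_smul, one_smul, mul_smul]
      have := h.two (k • b • v)
      calc _ = v + (k • b • v + k • b • v) + k • k • v := by abel
        _ = _ := by rw [this, add_zero]
    rw [h3] at h2
    have h4 : 1 + k * k = 0 := by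
      by_contra hne
      apply hv
      have := h.kC.smulE h2 (1 + k * k)⁻¹
      rwa [inv_smul_smul₀ hne] at this
    have h5 : k = 1 := by
      have h6 : (k - 1) * (k - 1) = 0 := by
        have h7 : (2 : K) = 0 := CharTwo.two_eq_zero
        linear_combination h4 - k * h7
      exact sub_eq_zero.1 (mul_self_eq_zero.1 h6)
    rw [h5, one_smul] at hk
    exact hk

theorem norm_of_tr (h : PD K V B C) {b : Y} (hb : b ∈ B) (ht : ∀ v : V, dl b v ∈ EX V C) :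
    EX V (MulAut.conj b • C) = EX V C := by
  have key : ∀ x : V, b • x ∈ EX V C ↔ x ∈ EX V C := by
    intro x
    rw [smul_eq h.two b x]
    constructor
    · intro h1
      have := sub_mem h1 (ht x)
      rwa [add_sub_cancel_right] at this
    · intro h1
      exact add_mem h1 (ht x)
  ext x
  have h1 : b • (b • x) = x := by rw [← mul_smul, h.kB.mem.sq b hb, one_smul]
  rw [← h1, smul_mem_EX, key, h1]


/-- `b ∈ B₀ ↔ [w,b] ∈ E_C` -/
theorem w_mem (h : PD K V B C) {w : V} (hw : w ∉ EX V B) {b : Y} (hb : b ∈ B) :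
    (∀ v : V, dl b v ∈ EX V C) ↔ dl b w ∈ EX V C := by
  refine ⟨fun h1 => h1 w, fun h1 v => ?_⟩
  obtain ⟨k, hk⟩ := h.kB.exk hw v
  have h3 : dl b v = dl b (v + k • w) + k • dl b w := by
    rw [map_add, h.kB.dl_smul hb, add_assoc, h.two, add_zero]
  rw [h3]
  exact add_mem (h.FE (hk b hb)) (h.kC.smulE h1 k)

theorem smul_l (h : PD K V B C) {x : V} (hx : x ∈ FX V B ⊔ FX V C) (k : K) : k • x ∈ FX V B ⊔ FX V C := by
  obtain ⟨f, hf, f', hf', rfl⟩ := AddSubgroup.mem_sup.1 hx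
  rw [smul_add]
  exact AddSubgroup.mem_sup.2 ⟨_, h.kB.smulF hf k, _, h.kC.smulF hf' k, rfl⟩

theorem l_le (h : PD K V B C) : FX V B ⊔ FX V C ≤ EX V B ⊓ EX V C :=
  sup_le (le_inf (h.kB.mem.FE h.two) h.FE) (le_inf h.FE' (h.kC.mem.FE h.two))

theorem F_le_l : FX V B ≤ FX V B ⊔ FX V C := le_sup_left

theorem F'_le_l : FX V C ≤ FX V B ⊔ FX V C := le_sup_right

/-- `b ∈ A_B ↔ [w,b] ∈ l` -/
theorem w_mem_l (h : PD K V B C) {w : V} (hw : w ∉ EX V B) {b : Y} (hb : b ∈ B) :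
    (∀ v : V, dl b v ∈ FX V B ⊔ FX V C) ↔ dl b w ∈ FX V B ⊔ FX V C := by
  refine ⟨fun h1 => h1 w, fun h1 v => ?_⟩
  obtain ⟨k, hk⟩ := h.kB.exk hw v
  have h3 : dl b v = dl b (v + k • w) + k • dl b w := by
    rw [map_add, h.kB.dl_smul hb, add_assoc, h.two, add_zero]
  rw [h3]
  exact add_mem (F_le_l (hk b hb)) (h.smul_l h1 k)

/-- `|B| = a |B₀|` -/
theorem ind (h : PD K V B C) : Nat.card B = Nat.card K * Nat.card ↥(B ⊓ TR V h.two (EX V C)) := by
  obtain ⟨w, hw⟩ := h.kB.mem.ne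
  have hc : Nat.card (V ⧸ EX V C) = Nat.card K := h.kC.mem.ind
  rw [← hc]
  refine card_hom B (fun b => (QuotientAddGroup.mk (dl (b : Y) w) : V ⧸ EX V C)) ?_ ?_ _ ?_
  · rintro ⟨b, hb⟩ ⟨c, hc⟩
    show (QuotientAddGroup.mk (dl (b * c) w) : V ⧸ EX V C) = _
    rw [dl_mul h.two, ← QuotientAddGroup.mk_add]
    refine QuotientAddGroup.eq.2 ?_
    have h1 : dl b (dl c w) ∈ EX V C := h.FE (h.kB.mem.VB c hc w b hb)
    have h2 : -(dl b w + dl c w + dl b (dl c w)) + (dl b w + dl c w) = -dl b (dl c w) := by abel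
    rw [h2]
    exact neg_mem h1
  · intro x
    obtain ⟨v, rfl⟩ := QuotientAddGroup.mk_surjective x
    obtain ⟨e, he, he'⟩ := h.nle
    obtain ⟨k, hk⟩ := h.kC.exk he' v
    obtain ⟨b, hb, f, hf, e1⟩ := h.kB.surj hw (h.kB.smulE he k)
    refine ⟨⟨b, hb⟩, QuotientAddGroup.eq.2 ?_⟩
    show -dl b w + v ∈ EX V C
    rw [KM.neg_eq h.two]
    have e2 : dl b w + v = (v + k • e) + f := by
      rw [e1, ← add_assoc, add_assoc _ f f, h.two, add_zero, add_comm]
    rw [e2]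
    exact add_mem hk (h.FE hf)
  · intro b
    constructor
    · rintro ⟨hb, ht⟩
      refine ⟨hb, ?_⟩
      exact (QuotientAddGroup.eq_zero_iff _).2 (ht w)
    · rintro ⟨hb, ht⟩
      exact ⟨hb, (h.w_mem hw hb).2 ((QuotientAddGroup.eq_zero_iff _).1 ht)⟩

theorem notF (h : PD K V B C) {x : V} (hx : x ∈ FX V C) (hx0 : x ≠ 0) : x ∉ FX V B := fun h1 => hx0 (h.dis x h1 hx)

/-- `|B| = a |C_B(x)|`, `x ∈ F_C#` -/
theorem ind_x (h : PD K V B C) {x : V} (hx : x ∈ FX V C) (hx0 : x ≠ 0) :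
    Nat.card B = Nat.card K * Nat.card ↥(B ⊓ MulAction.stabilizer Y x) := by
  rw [← h.kB.cardF]
  refine card_hom B (fun b => (⟨dl (b : Y) x, h.FE' hx b b.2⟩ : FX V B)) ?_ ?_ _ ?_
  · rintro ⟨b, hb⟩ ⟨c, hc⟩
    apply Subtype.ext
    show dl (b * c) x = dl b x + dl c x
    rw [dl_mul h.two, h.kB.dlF hb (h.FE' hx c hc), add_zero]
  · rintro ⟨f, hf⟩
    obtain ⟨b, hb, e⟩ := h.kB.exb (h.FE' hx) (h.notF hx hx0) hf
    exact ⟨⟨b, hb⟩, Subtype.ext e⟩
  · intro b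
    constructor
    · rintro ⟨hb, ht⟩
      exact ⟨hb, Subtype.ext ((dl_eq_zero h.two).2 (MulAction.mem_stabilizer_iff.1 ht))⟩
    · rintro ⟨hb, ht⟩
      exact ⟨hb, MulAction.mem_stabilizer_iff.2 ((dl_eq_zero h.two).1 (congrArg Subtype.val ht))⟩

/-- `C_B(x) = B₀`, `x ∈ F_C#` -/
theorem cent_eq (h : PD K V B C) {x : V} (hx : x ∈ FX V C) (hx0 : x ≠ 0) :
    B ⊓ MulAction.stabilizer Y x = B ⊓ TR V h.two (EX V C) := by
  have := h.kB.finY
  have h1 : B ⊓ MulAction.stabilizer Y x ≤ B ⊓ TR V h.two (EX V C) := by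
    rintro b ⟨hb, hbx⟩
    exact ⟨hb, h.tr_of_norm hb (h.bad' x hx hx0 b (MulAction.mem_stabilizer_iff.1 hbx))⟩
  refine Subgroup.eq_of_le_of_card_ge h1 ?_
  have h2 := h.ind.symm.trans (h.ind_x hx hx0)
  have h4 := h.four
  exact le_of_eq (Nat.eq_of_mul_eq_mul_left (by omega) h2)

/-- `B₀` centralises `F_C` -/
theorem fixF' (h : PD K V B C) {b : Y} (hb : b ∈ B) (ht : ∀ v : V, dl b v ∈ EX V C) {x : V} (hx : x ∈ FX V C) :
    b • x = x := by
  by_cases hx0 : x = 0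
  · rw [hx0, smul_zero]
  · have h1 : b ∈ B ⊓ TR V h.two (EX V C) := ⟨hb, ht⟩
    rw [← h.cent_eq hx hx0] at h1
    exact MulAction.mem_stabilizer_iff.1 h1.2

theorem tr_of_fix (h : PD K V B C) {b : Y} (hb : b ∈ B) {x : V} (hx : x ∈ FX V C) (hx0 : x ≠ 0) (hf : b • x = x)
    (v : V) : dl b v ∈ EX V C := by
  have h1 : b ∈ B ⊓ MulAction.stabilizer Y x := ⟨hb, MulAction.mem_stabilizer_iff.2 hf⟩
  rw [h.cent_eq hx hx0] at h1
  exact h1.2 v

theorem _root_.Cfsg.Agent.Omega.NO1.Lines.KM.exists_ne (h : KM K V B) (h4 : 4 ≤ Nat.card K) :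
    ∃ x ∈ FX V B, x ≠ 0 := by
  have h1 := h.cardF
  by_contra hcon
  push Not at hcon
  have h2 : FX V B = ⊥ := (AddSubgroup.eq_bot_iff_forall _).2 hcon
  rw [h2, AddSubgroup.card_bot] at h1
  omega

/-- (S9) for `s ∈ A_B#`: `C_V(s) = I` -/
theorem fix_t (h : PD K V B C) {t : Y} (htB : t ∈ B) (ht1 : t ≠ 1) (htl : ∀ v : V, dl t v ∈ FX V B ⊔ FX V C)
    (v : V) : dl t v = 0 ↔ v ∈ EX V B ⊓ EX V C := by
  obtain ⟨w, hw⟩ := h.kB.mem.ne
  obtain ⟨x, hx, x', hx', e1⟩ := AddSubgroup.mem_sup.1 (htl w)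
  have hx0 : x' ≠ 0 := by
    rintro rfl
    rw [add_zero] at e1
    refine ht1 (h.kB.mem.inj w hw t htB ?_)
    rw [← e1]
    exact hx
  have key : ∀ b ∈ B, dl t (dl b w) = dl b x' := by
    intro b hb
    rw [dl_comm (h.kB.mem.comm t htB b hb), ← e1, map_add, h.kB.dlF hb hx, zero_add]
  constructor
  · intro h0
    have hE : v ∈ EX V B := h.kB.mem.mem_of_fix h.two htB ht1 ((dl_eq_zero h.two).1 h0)
    refine ⟨hE, ?_⟩
    obtain ⟨b, hb, f, hf, rfl⟩ := h.kB.surj hw hE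
    rw [map_add, h.kB.dlF htB hf, add_zero, key b hb] at h0
    exact add_mem (h.tr_of_fix hb hx' hx0 ((dl_eq_zero h.two).1 h0) w) (h.FE hf)
  · rintro ⟨hE, hE'⟩
    obtain ⟨b, hb, f, hf, rfl⟩ := h.kB.surj hw hE
    rw [map_add, h.kB.dlF htB hf, add_zero, key b hb]
    have h1 : dl b w ∈ EX V C := by
      have := (EX V C).sub_mem hE' (h.FE hf)
      rwa [add_sub_cancel_right] at this
    exact (dl_eq_zero h.two).2 (h.fixF' hb ((h.w_mem hw hb).2 h1) hx')

theorem mem_HH_of (h : PD K V B C) {t : Y} (htB : t ∈ B) (htl : ∀ v : V, dl t v ∈ FX V B ⊔ FX V C) :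
    t ∈ HH V h.two (EX V B ⊓ EX V C) := by
  by_cases ht1 : t = 1
  · rw [ht1]; exact one_mem _
  · exact ⟨fun x hx => (dl_eq_zero h.two).1 ((h.fix_t htB ht1 htl x).2 hx), fun v => h.l_le (htl v)⟩

/-- two elements of `HH(I)`: the second order term vanishes -/
theorem dlH (h : PD K V B C) {y z : Y} (hy : y ∈ HH V h.two (EX V B ⊓ EX V C))
    (hz : z ∈ HH V h.two (EX V B ⊓ EX V C)) (v : V) : dl (y * z) v = dl y v + dl z v := by
  rw [dl_mul h.two, (dl_eq_zero h.two).2 (hy.1 _ (hz.2 v)), add_zero]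

theorem eq_of_dl (h : PD K V B C) {y z : Y} (he : ∀ v : V, dl y v = dl z v) : y = z := by
  have h1 : z⁻¹ * y = 1 := by
    refine h.faith _ fun v => ?_
    rw [mul_smul, smul_eq h.two y v, he v, ← smul_eq h.two z v, inv_smul_smul]
  exact (inv_mul_eq_one.1 h1).symm

/-- `|HH(I)| < a²` -/
theorem HH_lt (h : PD K V B C) (hne : HH (Y := Y) V h.two (EX V B ⊓ EX V C) ≠ ⊥) :
    Nat.card (HH (Y := Y) V h.two (EX V B ⊓ EX V C)) < Nat.card K * Nat.card K := by
  have := h.kB.finV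
  refine lt_of_lt_of_le (h.noff _ ?_ ?_ hne) ?_
  · intro y hy z hz
    apply h.eq_of_dl
    intro v
    rw [h.dlH hy hz, h.dlH hz hy, add_comm]
  · intro y hy
    apply h.eq_of_dl
    intro v
    rw [h.dlH hy hy, h.two, dl_one h.two]
  · have h1 : EX V B ⊓ EX V C ≤ FX V (HH (Y := Y) V h.two (EX V B ⊓ EX V C)) := fun x hx y hy => hy.1 x hx
    have h2 := AddSubgroup.index_antitone h1
    refine h2.trans (AddSubgroup.index_inf_le.trans ?_)
    rw [h.kB.mem.ind, h.kC.mem.ind]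

/-- (S6), for every `k` -/
theorem exs (h : PD K V B C) {w x : V} (hw : w ∉ EX V B) (hx : x ∈ FX V C) (k : K) :
    ∃ s ∈ B, (∀ v : V, dl s v ∈ FX V B ⊔ FX V C) ∧ dl s w + k • x ∈ FX V B := by
  obtain ⟨s, hs, h1⟩ := h.kB.mem.surj w hw (k • x) (h.kB.smulE (h.FE' hx) k)
  refine ⟨s, hs, (h.w_mem_l hw hs).2 ?_, h1⟩
  have h2 : dl s w = (dl s w + k • x) + k • x := by rw [add_assoc, h.two, add_zero]
  rw [h2]
  exact add_mem (F_le_l h1) (F'_le_l (h.kC.smulF hx k))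

theorem exs_inj (h : PD K V B C) {w x : V} (hx : x ∈ FX V C) (hx0 : x ≠ 0) {k m : K} {s : Y}
    (h1 : dl s w + k • x ∈ FX V B) (h2 : dl s w + m • x ∈ FX V B) : k = m := by
  have h3 := sub_mem h1 h2
  rw [add_sub_add_left_eq_sub, ← sub_smul] at h3
  by_contra hne
  have h4 := h.kB.smulF h3 (k - m)⁻¹
  rw [inv_smul_smul₀ (sub_ne_zero.2 hne)] at h4
  exact h.notF hx hx0 h4

/-- (S8) `A_B ∩ A_C ≠ 1` -/
theorem exists_t (h : PD K V B C) : ∃ t ∈ B, t ∈ C ∧ t ≠ 1 ∧ ∀ v : V, dl t v ∈ FX V B ⊔ FX V C := by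
  have := h.kB.finY
  have := h.kB.finK
  obtain ⟨x, hx, hx0⟩ := h.kC.exists_ne h.four
  obtain ⟨y, hy, hy0⟩ := h.kB.exists_ne h.four
  obtain ⟨w, hw⟩ := h.kB.mem.ne
  obtain ⟨w', hw'⟩ := h.kC.mem.ne
  choose s hs hsl hsw using h.exs hw hx
  choose r hr hrl hrw using h.symm.exs hw' hy
  by_contra hcon
  push Not at hcon
  have hcl : ∀ t : Y, t ∈ B → t ∈ C → (∀ v : V, dl t v ∈ FX V B ⊔ FX V C) → t = 1 := by
    intro t h1 h2 h3
    by_contra h4
    obtain ⟨v, hv⟩ := hcon t h1 h2 h4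
    exact hv (h3 v)
  have hsH : ∀ k, s k ∈ HH V h.two (EX V B ⊓ EX V C) := fun k => h.mem_HH_of (hs k) (hsl k)
  have hrl' : ∀ k v, dl (r k) v ∈ FX V B ⊔ FX V C := fun k v => by rw [sup_comm]; exact hrl k v
  have hrH : ∀ k, r k ∈ HH V h.two (EX V B ⊓ EX V C) := fun k => by
    rw [inf_comm]; exact h.symm.mem_HH_of (hr k) (hrl k)
  have hinj : Function.Injective (fun p : K × K =>
      (⟨s p.1 * r p.2, mul_mem (hsH _) (hrH _)⟩ : HH (Y := Y) V h.two (EX V B ⊓ EX V C))) := by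
    rintro ⟨k, k'⟩ ⟨m, m'⟩ he
    have e : s k * r k' = s m * r m' := congrArg Subtype.val he
    have e2 : (s m)⁻¹ * s k = r m' * (r k')⁻¹ := by
      rw [eq_mul_inv_iff_mul_eq, mul_assoc, e, inv_mul_cancel_left]
    have h1 : (s m)⁻¹ * s k = 1 := by
      refine hcl _ (mul_mem (inv_mem (hs m)) (hs k)) ?_ ?_
      · rw [e2]; exact mul_mem (hr _) (inv_mem (hr _))
      · exact (mul_mem (inv_mem (hsl m : s m ∈ TR V h.two (FX V B ⊔ FX V C))) (hsl k) :
          (s m)⁻¹ * s k ∈ TR V h.two (FX V B ⊔ FX V C))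
    have h2 : s k = s m := (inv_mul_eq_one.1 h1).symm
    have h3 : r k' = r m' := by
      rw [h2] at e
      exact mul_left_cancel e
    have h4 : k = m := h.exs_inj hx hx0 (hsw k) (h2 ▸ hsw m)
    have h5 : k' = m' := h.symm.exs_inj hy hy0 (hrw k') (h3 ▸ hrw m')
    rw [h4, h5]
  have h1 := Nat.card_le_card_of_injective _ hinj
  rw [Nat.card_prod] at h1
  refine absurd h1 (not_le.2 (h.HH_lt fun hb => ?_))
  have h2 : s 1 = 1 := by
    have := hsH 1
    rw [hb] at this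
    exact Subgroup.mem_bot.1 this
  have h3 := hsw 1
  rw [h2, dl_one h.two, zero_add, one_smul] at h3
  exact h.notF hx hx0 h3

/-- (S10) -/
theorem exw' (h : PD K V B C) {t : Y} (htB : t ∈ B) (ht1 : t ≠ 1) (htl : ∀ v : V, dl t v ∈ FX V B ⊔ FX V C)
    {f : V} (hf : f ∈ FX V B) : ∃ w' ∈ EX V B, dl t w' = f := by
  obtain ⟨w, hw⟩ := h.kB.mem.ne
  obtain ⟨x, hx, x', hx', e1⟩ := AddSubgroup.mem_sup.1 (htl w)
  have hx0 : x' ≠ 0 := by
    rintro rfl
    rw [add_zero] at e1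
    refine ht1 (h.kB.mem.inj w hw t htB ?_)
    rw [← e1]
    exact hx
  obtain ⟨b, hb, hbf⟩ := h.kB.exb (h.FE' hx') (h.notF hx' hx0) hf
  refine ⟨dl b w, h.kB.mem.VB b hb w, ?_⟩
  rw [dl_comm (h.kB.mem.comm t htB b hb), ← e1, map_add, h.kB.dlF hb hx, zero_add, hbf]

end PD

/-- a frame for a bad pair -/
structure Frm (B C : Subgroup Y) (t : Y) (f f' w w' : V) : Prop where
  tB : t ∈ B
  tC : t ∈ C
  tl : ∀ v : V, dl t v ∈ FX V B ⊔ FX V C
  fF : f ∈ FX V B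
  f0 : f ≠ 0
  fF' : f' ∈ FX V C
  f0' : f' ≠ 0
  wE' : w ∈ EX V C
  wE : w' ∈ EX V B
  dw : dl t w = f'
  dw' : dl t w' = f

theorem PD.exists_frm {B C : Subgroup Y} (h : PD K V B C) : ∃ (t : Y) (f f' w w' : V), Frm B C t f f' w w' := by
  obtain ⟨t, htB, htC, ht1, htl⟩ := h.exists_t
  obtain ⟨f', hf', hf0'⟩ := h.kC.exists_ne h.four
  obtain ⟨f, hf, hf0⟩ := h.kB.exists_ne h.four
  obtain ⟨w', hw', e'⟩ := h.exw' htB ht1 htl hf
  obtain ⟨w, hw, e⟩ := h.symm.exw' htC ht1 (by rw [sup_comm]; exact htl) hf'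
  exact ⟨t, f, f', w, w', htB, htC, htl, hf, hf0, hf', hf0', hw, hw', e, e'⟩

namespace Frm

variable {B C : Subgroup Y} {t : Y} {f f' w w' : V}

theorem symm (r : Frm B C t f f' w w') : Frm C B t f' f w' w :=
  ⟨r.tC, r.tB, by rw [sup_comm]; exact r.tl, r.fF', r.f0', r.fF, r.f0, r.wE, r.wE', r.dw', r.dw⟩

variable (h : PD K V B C) (r : Frm B C t f f' w w')
include h r

theorem t1 : t ≠ 1 := by
  rintro rfl
  exact r.f0' (by rw [← r.dw, dl_one h.two])

theorem wnE : w ∉ EX V B := fun hw => r.f0' (h.dis _ (r.dw ▸ hw t r.tB) r.fF')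

theorem wnE' : w' ∉ EX V C := fun hw => r.f0 (h.dis _ r.fF (r.dw' ▸ hw t r.tC))

theorem tH : t ∈ HH V h.two (EX V B ⊓ EX V C) := h.mem_HH_of r.tB r.tl

/-- `V = K w + K w' + I` -/
theorem dec (v : V) : ∃ k k' : K, v + (k • w + k' • w') ∈ EX V B ⊓ EX V C := by
  obtain ⟨k, hk⟩ := h.kB.exk (r.wnE h) v
  obtain ⟨k', hk'⟩ := h.kC.exk (r.wnE' h) (v + k • w)
  rw [add_assoc] at hk'
  refine ⟨k, k', ?_, hk'⟩
  have h1 := (EX V B).add_mem hk (h.kB.smulE r.wE k')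
  rwa [add_assoc] at h1

theorem f_indep {p q p' q' : K} (he : p • f + q • f' = p' • f + q' • f') : p = p' ∧ q = q' := by
  have h1 : (p - p') • f = (q' - q) • f' := by
    rw [sub_smul, sub_smul, sub_eq_sub_iff_add_eq_add, he, add_comm]
  have h2 : (p - p') • f = 0 := h.dis _ (h.kB.smulF r.fF _) (h1 ▸ h.kC.smulF r.fF' _)
  have h3 : (q' - q) • f' = 0 := h1 ▸ h2
  constructor
  · exact sub_eq_zero.1 ((smul_eq_zero.1 h2).resolve_right r.f0)
  · exact (sub_eq_zero.1 ((smul_eq_zero.1 h3).resolve_right r.f0')).symm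

theorem mem_l {x : V} : x ∈ FX V B ⊔ FX V C ↔ ∃ p q : K, x = p • f + q • f' := by
  constructor
  · intro hx
    obtain ⟨g, hg, g', hg', rfl⟩ := AddSubgroup.mem_sup.1 hx
    obtain ⟨p, rfl⟩ := h.kB.exF r.fF r.f0 hg
    obtain ⟨q, rfl⟩ := h.kC.exF r.fF' r.f0' hg'
    exact ⟨p, q, rfl⟩
  · rintro ⟨p, q, rfl⟩
    exact AddSubgroup.mem_sup.2 ⟨_, h.kB.smulF r.fF p, _, h.kC.smulF r.fF' q, rfl⟩

end Frm

namespace PD

variable {B C : Subgroup Y}

/-- elements of `HH(I)` are `K`-linear -/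
theorem linH (h : PD K V B C) {y : Y} (hy : y ∈ HH V h.two (EX V B ⊓ EX V C)) (k : K) (v : V) :
    y • (k • v) = k • (y • v) := by
  obtain ⟨σ, hσ⟩ := h.semi y
  obtain ⟨x, hx, hx0⟩ := h.kB.exists_ne h.four
  have h1 : ∀ z ∈ FX V B, y • z = z := fun z hz => hy.1 z (h.l_le (F_le_l hz))
  have h2 := hσ k x
  rw [h1 x hx, h1 _ (h.kB.smulF hx k)] at h2
  have h3 : (k - σ k) • x = 0 := by rw [sub_smul, ← h2, sub_self]
  rw [hσ, ← sub_eq_zero.1 ((smul_eq_zero.1 h3).resolve_right hx0)]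

theorem dlH_smul (h : PD K V B C) {y : Y} (hy : y ∈ HH V h.two (EX V B ⊓ EX V C)) (k : K) (v : V) :
    dl y (k • v) = k • dl y v := by
  rw [dl_apply, dl_apply, h.linH hy, smul_add]

theorem dlH0 (h : PD K V B C) {y : Y} (hy : y ∈ HH V h.two (EX V B ⊓ EX V C)) {v : V}
    (hv : v ∈ EX V B ⊓ EX V C) : dl y v = 0 := (dl_eq_zero h.two).2 (hy.1 v hv)

/-- `HH(I)` is normalised by `B` -/
theorem conjH (h : PD K V B C) {y b : Y} (hb : b ∈ B) (hy : y ∈ HH V h.two (EX V B ⊓ EX V C)) :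
    b * y * b⁻¹ ∈ HH V h.two (EX V B ⊓ EX V C) := by
  have hI : ∀ c ∈ B, ∀ x ∈ EX V B ⊓ EX V C, c • x ∈ EX V B ⊓ EX V C := by
    intro c hc x hx
    rw [smul_eq h.two c x]
    exact add_mem hx (h.l_le (F_le_l (hx.1 c hc)))
  constructor
  · intro x hx
    rw [mul_smul, mul_smul, hy.1 _ (hI _ (inv_mem hb) x hx), smul_inv_smul]
  · intro v
    have h1 := dl_conj b y (b⁻¹ • v)
    rw [smul_inv_smul] at h1
    rw [h1]
    exact hI b hb _ (hy.2 _)

/-- conjugation by an element of `B` in the frame -/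
theorem conj_dl (h : PD K V B C) {t : Y} {f f' w w' : V} (r : Frm B C t f f' w w') {y b : Y} (hb : b ∈ B)
    (hy : y ∈ HH V h.two (EX V B ⊓ EX V C)) {mu : K} (hmu : dl b f' = mu • f) :
    dl (b * y * b⁻¹) w' = b • dl y w' ∧ dl (b * y * b⁻¹) w = b • (dl y w + mu • dl y w') := by
  have hbi := h.kB.mem.inv_eq hb
  have h0 : ∀ v : V, dl (b * y * b⁻¹) v = b • dl y (v + dl b v) := by
    intro v
    have h1 := dl_conj b y (b • v)
    rw [← mul_smul, h.kB.mem.sq b hb, one_smul] at h1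
    rw [h1, smul_eq h.two b v]
  constructor
  · rw [h0, map_add, h.dlH0 hy (h.l_le (F_le_l (r.wE b hb))), add_zero]
  · rw [h0, map_add]
    have h1 : dl b w + mu • w' ∈ EX V B ⊓ EX V C := by
      rw [← h.fix_t r.tB (r.t1 h) r.tl, map_add, dl_comm (h.kB.mem.comm t r.tB b hb), r.dw, hmu,
        h.kB.dl_smul r.tB, r.dw', h.two]
    have h2 : dl y (dl b w) = mu • dl y w' := by
      have h3 := h.dlH0 hy h1
      rw [map_add, h.dlH_smul hy] at h3
      exact (add_eq_zero' h.two).1 h3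
    rw [h2]

/-- `mu` is realised in `B` -/
theorem exmu (h : PD K V B C) {t : Y} {f f' w w' : V} (r : Frm B C t f f' w w') (mu : K) :
    ∃ b ∈ B, dl b f' = mu • f :=
  h.kB.exb (h.FE' r.fF') (h.notF r.fF' r.f0') (h.kB.smulF r.fF mu)

/-- step 1 of `big` -/
theorem big1 (h : PD K V B C) {t : Y} {f f' w w' : V} (r : Frm B C t f f' w w') {y : Y}
    (hy : y ∈ HH V h.two (EX V B ⊓ EX V C)) (mu : K) :
    ∃ z : Y, z ∈ HH V h.two (EX V B ⊓ EX V C) ∧ dl z w' ∈ FX V B ⊔ FX V C ∧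
      dl z w + mu • dl y w' ∈ FX V B ⊔ FX V C := by
  obtain ⟨b, hb, hmu⟩ := h.exmu r mu
  have hc := h.conjH hb hy
  obtain ⟨h1, h2⟩ := h.conj_dl r hb hy hmu
  refine ⟨y * (b * y * b⁻¹), mul_mem hy hc, ?_, ?_⟩
  · rw [h.dlH hy hc, h1, smul_eq h.two b, ← add_assoc, h.two, zero_add]
    exact F_le_l ((hy.2 w').1 b hb)
  · rw [h.dlH hy hc, h2, smul_eq h.two b, ← add_assoc, ← add_assoc, h.two, zero_add]
    have h3 : dl b (dl y w + mu • dl y w') ∈ FX V B := by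
      rw [map_add, h.kB.dl_smul hb]
      exact add_mem ((hy.2 w).1 b hb) (h.kB.smulF ((hy.2 w').1 b hb) mu)
    have h4 : mu • dl y w' + dl b (dl y w + mu • dl y w') + mu • dl y w' = dl b (dl y w + mu • dl y w') := by
      have := h.two (mu • dl y w')
      calc _ = (mu • dl y w' + mu • dl y w') + dl b (dl y w + mu • dl y w') := by abel
        _ = _ := by rw [this, zero_add]
    rw [h4]
    exact F_le_l h3

/-- step 2 of `big` -/
theorem big2 (h : PD K V B C) {t : Y} {f f' w w' : V} (r : Frm B C t f f' w w') {z : Y} {u : V}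
    (hz : z ∈ HH V h.two (EX V B ⊓ EX V C)) (h2 : dl z w + u ∈ FX V B ⊔ FX V C) :
    ∃ z' : Y, z' ∈ HH V h.two (EX V B ⊓ EX V C) ∧ dl z' w ∈ FX V B ⊔ FX V C ∧ dl z' w' + u ∈ FX V B ⊔ FX V C := by
  have hz' : z ∈ HH V h.symm.two (EX V C ⊓ EX V B) := by rw [inf_comm]; exact hz
  obtain ⟨z', hz'', e1, e2⟩ := h.symm.big1 r.symm hz' 1
  refine ⟨z', by rw [inf_comm]; exact hz'', by rw [sup_comm]; exact e1, ?_⟩
  rw [one_smul, sup_comm] at e2
  have h3 : dl z' w' + u = (dl z' w' + dl z w) + (dl z w + u) := by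
    have := h.two (dl z w)
    calc _ = dl z' w' + (dl z w + dl z w) + u := by rw [this, add_zero]
      _ = _ := by abel
  rw [h3]
  exact add_mem e2 h2

/-- `[V, HH(I)] ≤ l`, half of it -/
theorem big (h : PD K V B C) {t : Y} {f f' w w' : V} (r : Frm B C t f f' w w') {y : Y}
    (hy : y ∈ HH V h.two (EX V B ⊓ EX V C)) : dl y w' ∈ FX V B ⊔ FX V C := by
  have := h.kB.finY
  have := h.kB.finK
  by_contra hu
  choose z hz hz1 hz2 using h.big1 r hy
  choose z' hz' hz1' hz2' using fun mu => h.big2 r (hz mu) (hz2 mu)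
  have hul : ∀ k m : K, k • dl y w' + m • dl y w' ∈ FX V B ⊔ FX V C → k = m := by
    intro k m h1
    by_contra hne
    apply hu
    have h2 : (k - m) • dl y w' ∈ FX V B ⊔ FX V C := by
      rw [sub_smul, sub_eq_add_neg, KM.neg_eq h.two]
      exact h1
    have h3 := h.smul_l h2 (k - m)⁻¹
    rwa [inv_smul_smul₀ (sub_ne_zero.2 hne)] at h3
  have hinj : Function.Injective (fun p : K × K =>
      (⟨z p.1 * z' p.2, mul_mem (hz _) (hz' _)⟩ : HH (Y := Y) V h.two (EX V B ⊓ EX V C))) := by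
    rintro ⟨k, k'⟩ ⟨m, m'⟩ he
    have e : z k * z' k' = z m * z' m' := congrArg Subtype.val he
    have key : ∀ v : V, dl (z k) v + dl (z' k') v = dl (z m) v + dl (z' m') v := by
      intro v
      rw [← h.dlH (hz k) (hz' k'), e, h.dlH (hz m) (hz' m')]
    have h1 : k = m := by
      apply hul
      have e1 := key w
      have e2 : k • dl y w' + m • dl y w' = (dl (z k) w + k • dl y w') + (dl (z m) w + m • dl y w') +
          dl (z' k') w + dl (z' m') w := by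
        have e3 : dl (z k) w + dl (z m) w + dl (z' k') w + dl (z' m') w = 0 := by
          calc _ = (dl (z k) w + dl (z' k') w) + (dl (z m) w + dl (z' m') w) := by abel
            _ = 0 := by rw [e1, h.two]
        calc _ = k • dl y w' + m • dl y w' + (dl (z k) w + dl (z m) w + dl (z' k') w + dl (z' m') w) := by
              rw [e3, add_zero]
          _ = _ := by abel
      rw [e2]
      exact add_mem (add_mem (add_mem (hz2 k) (hz2 m)) (hz1' k')) (hz1' m')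
    have h1' : k' = m' := by
      apply hul
      have e1 := key w'
      have e2 : k' • dl y w' + m' • dl y w' = (dl (z' k') w' + k' • dl y w') + (dl (z' m') w' + m' • dl y w') +
          dl (z k) w' + dl (z m) w' := by
        have e3 : dl (z' k') w' + dl (z' m') w' + dl (z k) w' + dl (z m) w' = 0 := by
          calc _ = (dl (z k) w' + dl (z' k') w') + (dl (z m) w' + dl (z' m') w') := by abel
            _ = 0 := by rw [e1, h.two]
        calc _ = k' • dl y w' + m' • dl y w' + (dl (z' k') w' + dl (z' m') w' + dl (z k) w' + dl (z m) w') := by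
              rw [e3, add_zero]
          _ = _ := by abel
      rw [e2]
      exact add_mem (add_mem (add_mem (hz2' k') (hz2' m')) (hz1 k)) (hz1 m)
    rw [h1, h1']
  have h1 := Nat.card_le_card_of_injective _ hinj
  rw [Nat.card_prod] at h1
  refine absurd h1 (not_le.2 (h.HH_lt fun hb => ?_))
  have h2 := r.tH h
  rw [hb] at h2
  exact r.t1 h (Subgroup.mem_bot.1 h2)

theorem big' (h : PD K V B C) {t : Y} {f f' w w' : V} (r : Frm B C t f f' w w') {y : Y}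
    (hy : y ∈ HH V h.two (EX V B ⊓ EX V C)) : dl y w ∈ FX V B ⊔ FX V C := by
  have hy' : y ∈ HH V h.symm.two (EX V C ⊓ EX V B) := by rw [inf_comm]; exact hy
  rw [sup_comm]
  exact h.symm.big r.symm hy'


theorem cst2 {p q p' q' : K} {f f' : V} (h1 : p = p') (h2 : q = q') : p • f + q • f' = p' • f + q' • f' := by
  rw [h1, h2]

/-- `b` on `l` -/
theorem act (h : PD K V B C) {t : Y} {f f' w w' : V} (r : Frm B C t f f' w w') {b : Y} (hb : b ∈ B) {mu : K}
    (hmu : dl b f' = mu • f) (p q : K) : b • (p • f + q • f') = (p + q * mu) • f + q • f' := by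
  have h1 : b • f' = f' + mu • f := by rw [smul_eq h.two b, hmu]
  rw [smul_add, h.kB.lin b hb, h.kB.lin b hb, r.fF b hb, h1, smul_add, ← mul_smul, add_smul]
  abel

/-- the matrices of the elements of `HH(I)` -/
def Lam (h : PD K V B C) {t : Y} {f f' w w' : V} (_ : Frm B C t f f' w w') :
    AddSubgroup (Matrix (Fin 2) (Fin 2) K) where
  carrier := {m | ∃ y : Y, y ∈ HH V h.two (EX V B ⊓ EX V C) ∧ dl y w' = m 0 0 • f + m 1 0 • f' ∧
    dl y w = m 0 1 • f + m 1 1 • f'}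
  zero_mem' := ⟨1, one_mem _, by simp [dl_one h.two], by simp [dl_one h.two]⟩
  add_mem' := by
    rintro m n ⟨y, hy, h1, h2⟩ ⟨z, hz, h3, h4⟩
    refine ⟨y * z, mul_mem hy hz, ?_, ?_⟩
    · rw [h.dlH hy hz, h1, h3, Matrix.add_apply, Matrix.add_apply, add_smul, add_smul]; abel
    · rw [h.dlH hy hz, h2, h4, Matrix.add_apply, Matrix.add_apply, add_smul, add_smul]; abel
  neg_mem' := by
    rintro m ⟨y, hy, h1, h2⟩
    have := h.kB.char
    refine ⟨y, hy, ?_, ?_⟩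
    · rw [h1, Matrix.neg_apply, Matrix.neg_apply, CharTwo.neg_eq, CharTwo.neg_eq]
    · rw [h2, Matrix.neg_apply, Matrix.neg_apply, CharTwo.neg_eq, CharTwo.neg_eq]

theorem mem_Lam (h : PD K V B C) {t : Y} {f f' w w' : V} (r : Frm B C t f f' w w')
    {m : Matrix (Fin 2) (Fin 2) K} : m ∈ h.Lam r ↔ ∃ y : Y, y ∈ HH V h.two (EX V B ⊓ EX V C) ∧
      dl y w' = m 0 0 • f + m 1 0 • f' ∧ dl y w = m 0 1 • f + m 1 1 • f' := Iff.rfl

theorem card_Lam (h : PD K V B C) {t : Y} {f f' w w' : V} (r : Frm B C t f f' w w') :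
    Nat.card (h.Lam r) < Nat.card K ^ 2 := by
  have := h.kB.finY
  have h0 : Nat.card (HH (Y := Y) V h.two (EX V B ⊓ EX V C)) < Nat.card K * Nat.card K := by
    refine h.HH_lt fun hb => ?_
    have h2 := r.tH h
    rw [hb] at h2
    exact r.t1 h (Subgroup.mem_bot.1 h2)
  rw [sq]
  refine lt_of_le_of_lt ?_ h0
  choose g hg hg1 hg2 using fun m : h.Lam r => (h.mem_Lam r).1 m.2
  refine Nat.card_le_card_of_injective (fun m : h.Lam r =>
    (⟨g m, hg m⟩ : HH (Y := Y) V h.two (EX V B ⊓ EX V C))) ?_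
  intro m n hmn
  have e : g m = g n := congrArg Subtype.val hmn
  have e1 := hg1 m
  have e2 := hg2 m
  rw [e, hg1 n] at e1
  rw [e, hg2 n] at e2
  obtain ⟨a1, a2⟩ := r.f_indep h e1
  obtain ⟨a3, a4⟩ := r.f_indep h e2
  apply Subtype.ext
  ext i j
  fin_cases i <;> fin_cases j
  · exact a1.symm
  · exact a3.symm
  · exact a2.symm
  · exact a4.symm

theorem conj_in (h : PD K V B C) {t : Y} {f f' w w' : V} (r : Frm B C t f f' w w') {y : Y}
    (hy : y ∈ HH V h.two (EX V B ⊓ EX V C)) (mu : K) {p q a b : K} (h1 : dl y w' = p • f + a • f')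
    (h2 : dl y w = q • f + b • f') : ∃ y' : Y, y' ∈ HH V h.two (EX V B ⊓ EX V C) ∧
      dl y' w' = (p + mu * a) • f + a • f' ∧
      dl y' w = ((p + mu * a) * mu + (q + mu * b)) • f + (a * mu + b) • f' := by
  obtain ⟨c, hc, hmu⟩ := h.exmu r mu
  obtain ⟨e1, e2⟩ := h.conj_dl r hc hy hmu
  refine ⟨c * y * c⁻¹, h.conjH hc hy, ?_, ?_⟩
  · rw [e1, h1, h.act r hc hmu, mul_comm a mu]
  · have e3 : dl y w + mu • dl y w' = (q + mu * p) • f + (b + mu * a) • f' := by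
      rw [h1, h2, smul_add, ← mul_smul, ← mul_smul, add_smul, add_smul]
      abel
    rw [e2, e3, h.act r hc hmu]
    congr 2 <;> ring

theorem dl_w' (h : PD K V B C) {t : Y} {f f' w w' : V} (r : Frm B C t f f' w w') {s : Y} (hs : s ∈ B) {k : K}
    {g : V} (hg : g ∈ FX V B) (hsw : dl s w = k • f' + g) : dl s w' = k • f := by
  obtain ⟨b, hb, g', hg', e1⟩ := h.kB.surj (r.wnE h) r.wE
  have e2 : dl b f' = f := by
    rw [← r.dw, ← dl_comm (h.kB.mem.comm t r.tB b hb), ← r.dw', e1, map_add, h.kB.dlF r.tB hg', add_zero]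
  rw [e1, map_add, h.kB.dlF hs hg', add_zero, dl_comm (h.kB.mem.comm s hs b hb), hsw, map_add, h.kB.dlF hb hg,
    add_zero, h.kB.dl_smul hb, e2]

/-- **(2)** the matrices of `HH(I)` are the scalar matrices -/
theorem Lam_iff (h : PD K V B C) {t : Y} {f f' w w' : V} (r : Frm B C t f f' w w')
    (m : Matrix (Fin 2) (Fin 2) K) : m ∈ h.Lam r ↔ ∃ k : K, m = !![k, 0; 0, k] := by
  have := h.kB.char
  have := h.kB.finK
  have h4 := h.four
  refine mat_scalars (by omega) _ (h.card_Lam r) ?_ ?_ ?_ m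
  · rintro mu m ⟨y, hy, h1, h2⟩
    obtain ⟨p, q, a, b, rfl⟩ : ∃ p q a b : K, m = !![p, q; a, b] :=
      ⟨m 0 0, m 0 1, m 1 0, m 1 1, by ext i j; fin_cases i <;> fin_cases j <;> rfl⟩
    obtain ⟨y', hy', e1, e2⟩ := h.conj_in r hy mu h1 h2
    rw [Matrix.mul_fin_two, Matrix.mul_fin_two]
    refine ⟨y', hy', ?_, ?_⟩
    · rw [e1]
      simp
    · rw [e2]
      simp
  · rintro mu m ⟨y, hy, h1, h2⟩
    obtain ⟨p, q, a, b, rfl⟩ : ∃ p q a b : K, m = !![p, q; a, b] :=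
      ⟨m 0 0, m 0 1, m 1 0, m 1 1, by ext i j; fin_cases i <;> fin_cases j <;> rfl⟩
    have hy' : y ∈ HH V h.symm.two (EX V C ⊓ EX V B) := by rw [inf_comm]; exact hy
    obtain ⟨y', hy', e1, e2⟩ := h.symm.conj_in r.symm hy' mu (by rw [add_comm]; exact h2)
      (by rw [add_comm]; exact h1)
    rw [Matrix.mul_fin_two, Matrix.mul_fin_two]
    refine ⟨y', by rw [inf_comm]; exact hy', ?_, ?_⟩
    · rw [e2, add_comm]
      refine cst2 ?_ ?_ <;> simp
      all_goals ring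
    · rw [e1, add_comm]
      refine cst2 ?_ ?_ <;> simp
      all_goals ring
  · intro k
    obtain ⟨s, hs, hsl, hsw⟩ := h.exs (r.wnE h) r.fF' k
    have e1 : dl s w = k • f' + (dl s w + k • f') := by
      rw [add_comm (dl s w), ← add_assoc, h.two, zero_add]
    obtain ⟨c, hc⟩ := h.kB.exF r.fF r.f0 hsw
    have e2 := h.dl_w' r hs hsw e1
    rw [hc] at e1
    refine ⟨c, s, h.mem_HH_of hs hsl, ?_, ?_⟩
    · rw [e2]; simp
    · rw [e1, add_comm]; simp

theorem dl_dec (h : PD K V B C) {y : Y} (hy : y ∈ HH V h.two (EX V B ⊓ EX V C)) {v w w' : V} {k k' : K}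
    (hv : v + (k • w + k' • w') ∈ EX V B ⊓ EX V C) : dl y v = k • dl y w + k' • dl y w' := by
  have h1 := h.dlH0 hy hv
  rw [map_add, map_add, h.dlH_smul hy, h.dlH_smul hy] at h1
  exact (add_eq_zero' h.two).1 h1

theorem scal_of (h : PD K V B C) {t : Y} {f f' w w' : V} (r : Frm B C t f f' w w') {y : Y}
    (hy : y ∈ HH V h.two (EX V B ⊓ EX V C)) {k : K} (h1 : dl y w' = k • f) (h2 : dl y w = k • f') (v : V) :
    dl y v = k • dl t v := by
  obtain ⟨k1, k2, hv⟩ := r.dec h v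
  rw [h.dl_dec hy hv, h.dl_dec (r.tH h) hv, h1, h2, r.dw, r.dw', smul_add, ← mul_smul, ← mul_smul, ← mul_smul,
    ← mul_smul, mul_comm k k1, mul_comm k k2]

/-- the elements of `HH(I)` are the `1 + k (t - 1)` -/
theorem scal_t (h : PD K V B C) {t : Y} {f f' w w' : V} (r : Frm B C t f f' w w') {y : Y}
    (hy : y ∈ HH V h.two (EX V B ⊓ EX V C)) : ∃ k : K, ∀ v : V, dl y v = k • dl t v := by
  obtain ⟨p, a, e1⟩ := (r.mem_l h).1 (h.big r hy)
  obtain ⟨q, b, e2⟩ := (r.mem_l h).1 (h.big' r hy)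
  have h1 : !![p, q; a, b] ∈ h.Lam r := ⟨y, hy, by simpa using e1, by simpa using e2⟩
  obtain ⟨k, hk⟩ := (h.Lam_iff r _).1 h1
  have a1 : p = k := by simpa using congrFun (congrFun hk 0) 0
  have a2 : q = 0 := by simpa using congrFun (congrFun hk 0) 1
  have a3 : a = 0 := by simpa using congrFun (congrFun hk 1) 0
  have a4 : b = k := by simpa using congrFun (congrFun hk 1) 1
  subst a1 a2 a3 a4
  rw [zero_smul, add_zero] at e1
  rw [zero_smul, zero_add] at e2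
  exact ⟨_, h.scal_of r hy e1 e2⟩

/-- every `1 + k (t - 1)` is in `B` -/
theorem real_t (h : PD K V B C) {t : Y} {f f' w w' : V} (r : Frm B C t f f' w w') (k : K) :
    ∃ s : Y, s ∈ B ∧ s ∈ HH V h.two (EX V B ⊓ EX V C) ∧ ∀ v : V, dl s v = k • dl t v := by
  obtain ⟨s, hs, hsl, hsw⟩ := h.exs (r.wnE h) r.fF' k
  have e1 : dl s w = k • f' + (dl s w + k • f') := by
    rw [add_comm (dl s w), ← add_assoc, h.two, zero_add]
  obtain ⟨c, hc⟩ := h.kB.exF r.fF r.f0 hsw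
  have e2 := h.dl_w' r hs hsw e1
  rw [hc] at e1
  have hsH := h.mem_HH_of hs hsl
  have h1 : !![k, c; 0, k] ∈ h.Lam r := ⟨s, hsH, by rw [e2]; simp, by rw [e1, add_comm]; simp⟩
  obtain ⟨k', hk'⟩ := (h.Lam_iff r _).1 h1
  have a2 : c = 0 := by simpa using congrFun (congrFun hk' 0) 1
  rw [a2, zero_smul, add_zero] at e1
  exact ⟨s, hs, hsH, h.scal_of r hsH e2 e1⟩

/-- **(2)** `HH(I) ≤ B` -/
theorem HH_le (h : PD K V B C) : HH V h.two (EX V B ⊓ EX V C) ≤ B := by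
  obtain ⟨t, f, f', w, w', r⟩ := h.exists_frm
  intro y hy
  obtain ⟨k, hk⟩ := h.scal_t r hy
  obtain ⟨s, hs, -, hk'⟩ := h.real_t r k
  rw [h.eq_of_dl (y := y) (z := s) fun v => by rw [hk, hk']]
  exact hs

theorem HH_le' (h : PD K V B C) : HH V h.two (EX V B ⊓ EX V C) ≤ C := by
  rw [inf_comm]
  exact h.symm.HH_le

/-- **(2)** `|HH(I)| = a` -/
theorem card_HH (h : PD K V B C) : Nat.card (HH (Y := Y) V h.two (EX V B ⊓ EX V C)) = Nat.card K := by
  obtain ⟨t, f, f', w, w', r⟩ := h.exists_frm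
  choose s _ hs hk using h.real_t r
  refine (Nat.card_congr (Equiv.ofBijective (fun k => (⟨s k, hs k⟩ : HH (Y := Y) V h.two (EX V B ⊓ EX V C)))
    ⟨?_, ?_⟩)).symm
  · intro k m he
    have e : s k = s m := congrArg Subtype.val he
    have e1 := hk k w
    rw [e, hk m w, r.dw] at e1
    have e2 : (m - k) • f' = 0 := by rw [sub_smul, e1, sub_self]
    exact (sub_eq_zero.1 ((smul_eq_zero.1 e2).resolve_right r.f0')).symm
  · rintro ⟨y, hy⟩
    obtain ⟨k, hk'⟩ := h.scal_t r hy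
    exact ⟨k, Subtype.ext (h.eq_of_dl fun v => by rw [hk, hk'])⟩

/-- `[V, s] ≤ l` for `s ∈ HH(I)` -/
theorem dl_HH (h : PD K V B C) {s : Y} (hs : s ∈ HH V h.two (EX V B ⊓ EX V C)) (v : V) :
    dl s v ∈ FX V B ⊔ FX V C := by
  obtain ⟨t, f, f', w, w', r⟩ := h.exists_frm
  obtain ⟨k, hk⟩ := h.scal_t r hs
  rw [hk]
  exact h.smul_l (r.tl v) k

/-- the elements of `HH(I)` are the `1 + k (s - 1)`, for every `s ∈ HH(I)#` -/
theorem scal (h : PD K V B C) {s y : Y} (hs : s ∈ HH V h.two (EX V B ⊓ EX V C)) (hs1 : s ≠ 1)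
    (hy : y ∈ HH V h.two (EX V B ⊓ EX V C)) : ∃ k : K, ∀ v : V, dl y v = k • dl s v := by
  obtain ⟨t, f, f', w, w', r⟩ := h.exists_frm
  obtain ⟨k, hk⟩ := h.scal_t r hs
  obtain ⟨m, hm⟩ := h.scal_t r hy
  have hk0 : k ≠ 0 := by
    rintro rfl
    apply hs1
    apply h.eq_of_dl
    intro v
    rw [hk, zero_smul, dl_one h.two]
  refine ⟨m * k⁻¹, fun v => ?_⟩
  rw [hk, hm, mul_smul, inv_smul_smul₀ hk0]

/-- for every `k`, `1 + k (s - 1) ∈ HH(I)` -/
theorem real (h : PD K V B C) {s : Y} (hs : s ∈ HH V h.two (EX V B ⊓ EX V C)) (k : K) :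
    ∃ y : Y, y ∈ HH V h.two (EX V B ⊓ EX V C) ∧ ∀ v : V, dl y v = k • dl s v := by
  obtain ⟨t, f, f', w, w', r⟩ := h.exists_frm
  obtain ⟨m, hm⟩ := h.scal_t r hs
  obtain ⟨y, -, hy, hk⟩ := h.real_t r (k * m)
  exact ⟨y, hy, fun v => by rw [hk, hm, mul_smul]⟩

/-- `C_V(s) = I` for `s ∈ HH(I)#` -/
theorem dl_eq_zero_iff (h : PD K V B C) {s : Y} (hs : s ∈ HH V h.two (EX V B ⊓ EX V C)) (hs1 : s ≠ 1) (v : V) :
    dl s v = 0 ↔ v ∈ EX V B ⊓ EX V C := h.fix_t (h.HH_le hs) hs1 (h.dl_HH hs) v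

/-- `[V, s] = l` for `s ∈ HH(I)#` -/
theorem exists_dl (h : PD K V B C) {s : Y} (hs : s ∈ HH V h.two (EX V B ⊓ EX V C)) (hs1 : s ≠ 1) {x : V}
    (hx : x ∈ FX V B ⊔ FX V C) : ∃ v : V, dl s v = x := by
  obtain ⟨g, hg, g', hg', rfl⟩ := AddSubgroup.mem_sup.1 hx
  obtain ⟨v, -, hv⟩ := h.exw' (h.HH_le hs) hs1 (h.dl_HH hs) hg
  obtain ⟨v', -, hv'⟩ := h.symm.exw' (h.HH_le' hs) hs1 (by rw [sup_comm]; exact h.dl_HH hs) hg'
  exact ⟨v + v', by rw [map_add, hv, hv']⟩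

theorem HH_ne (h : PD K V B C) : ∃ s : Y, s ∈ HH V h.two (EX V B ⊓ EX V C) ∧ s ≠ 1 := by
  obtain ⟨t, f, f', w, w', r⟩ := h.exists_frm
  exact ⟨t, r.tH h, r.t1 h⟩

/-- `C_V(A) = I` -/
theorem FX_HH (h : PD K V B C) : FX V (HH (Y := Y) V h.two (EX V B ⊓ EX V C)) = EX V B ⊓ EX V C := by
  obtain ⟨s, hs, hs1⟩ := h.HH_ne
  ext v
  constructor
  · intro hv
    exact (h.dl_eq_zero_iff hs hs1 v).1 ((dl_eq_zero h.two).2 (hv s hs))
  · intro hv y hy
    exact hy.1 v hv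

/-- `[V, A] = l` -/
theorem CM_HH (h : PD K V B C) : CM V (HH (Y := Y) V h.two (EX V B ⊓ EX V C)) = FX V B ⊔ FX V C := by
  obtain ⟨s, hs, hs1⟩ := h.HH_ne
  apply le_antisymm
  · refine (AddSubgroup.closure_le _).2 ?_
    rintro x ⟨y, hy, v, rfl⟩
    exact h.dl_HH hy v
  · intro x hx
    obtain ⟨v, hv⟩ := h.exists_dl hs hs1 hx
    exact AddSubgroup.subset_closure ⟨s, hs, v, hv.symm⟩

/-- **(4)** the points of `l` -/
theorem pts (h : PD K V B C) {x : V} (hx : x ∈ FX V B ⊔ FX V C) (hx0 : x ≠ 0) :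
    x ∈ FX V B ∨ ∃ b ∈ B, x ∈ FX V (MulAut.conj b • C) := by
  obtain ⟨t, f, f', w, w', r⟩ := h.exists_frm
  obtain ⟨p, q, rfl⟩ := (r.mem_l h).1 hx
  by_cases hq : q = 0
  · left
    rw [hq, zero_smul, add_zero]
    exact h.kB.smulF r.fF p
  · right
    obtain ⟨b, hb, hmu⟩ := h.exmu r (p * q⁻¹)
    refine ⟨b, hb, ?_⟩
    have h1 := h.act r hb hmu 0 q
    have h2 : 0 + q * (p * q⁻¹) = p := by field_simp; ring
    rw [h2, zero_smul, zero_add] at h1
    rw [← h1, smul_mem_FX]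
    exact h.kC.smulF r.fF' q

/-- `C_V(B₀) = l` -/
theorem fix0 (h : PD K V B C) : FX V (B ⊓ TR V h.two (EX V C)) = FX V B ⊔ FX V C := by
  obtain ⟨t, f, f', w, w', r⟩ := h.exists_frm
  have htB0 : t ∈ B ⊓ TR V h.two (EX V C) := ⟨r.tB, fun v => (h.l_le (r.tl v)).2⟩
  apply le_antisymm
  · intro v hv
    have hI : v ∈ EX V B ⊓ EX V C := (h.fix_t r.tB (r.t1 h) r.tl v).1 ((dl_eq_zero h.two).2 (hv t htB0))
    obtain ⟨b, hb, g, hg, e1⟩ := h.kB.surj (r.wnE h) hI.1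
    -- `b` is trivial on `I`
    have hbI : ∀ u ∈ EX V B ⊓ EX V C, dl b u = 0 := by
      rintro u hu
      obtain ⟨c, hc, g', hg', e2⟩ := h.kB.surj (r.wnE h) hu.1
      have hc0 : dl c w ∈ EX V C := by
        have h3 := (EX V C).sub_mem hu.2 (h.FE hg')
        rwa [e2, add_sub_cancel_right] at h3
      have h4 := (dl_eq_zero h.two).2 (hv c ⟨hc, (h.w_mem (r.wnE h) hc).2 hc0⟩)
      rw [e1, map_add, h.kB.dlF hc hg, add_zero, dl_comm (h.kB.mem.comm c hc b hb)] at h4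
      rw [e2, map_add, h.kB.dlF hb hg', add_zero, h4]
    -- `dl b w' = k f`
    obtain ⟨k, hk⟩ := h.kB.exF r.fF r.f0 (r.wE b hb)
    obtain ⟨s, hs, hsH, hsk⟩ := h.real_t r k
    have hbs : b * s ∈ B := mul_mem hb hs
    have hE : ∀ e ∈ EX V B, dl (b * s) e = 0 := by
      intro e he
      obtain ⟨m, hm⟩ := h.kC.exk (r.wnE' h) e
      have hm' : e + m • w' ∈ EX V B ⊓ EX V C := ⟨add_mem he (h.kB.smulE r.wE m), hm⟩
      have e3 : dl b e = m • dl b w' := by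
        have h5 := hbI _ hm'
        rw [map_add, h.kB.dl_smul hb] at h5
        exact (add_eq_zero' h.two).1 h5
      have e4 : dl s e = m • dl s w' := by
        have h5 := h.dlH0 hsH hm'
        rw [map_add, h.kB.dl_smul hs] at h5
        exact (add_eq_zero' h.two).1 h5
      rw [dl_mul h.two, h.kB.dlF hb (he s hs), add_zero, e3, e4, hk, hsk, r.dw', h.two]
    have h1 : b * s = 1 := by
      refine h.kB.mem.inj w (r.wnE h) _ hbs ?_
      intro c hc
      rw [← dl_eq_zero h.two, dl_comm (h.kB.mem.comm c hc _ hbs)]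
      exact hE _ (h.kB.mem.VB c hc w)
    have h2 : b = s := by
      rw [eq_inv_of_mul_eq_one_left h1, h.kB.mem.inv_eq hs]
    rw [e1, h2, hsk]
    exact add_mem (h.smul_l (r.tl w) k) (F_le_l hg)
  · refine sup_le (fun x hx b hb => hx b hb.1) (fun x hx b hb => ?_)
    exact h.fixF' hb.1 hb.2 hx

/-- a `K`-subspace `P` -/
theorem sub_or (h : PD K V B C) (P : AddSubgroup V) (hP : ∀ (k : K), ∀ x ∈ P, k • x ∈ P) :
    HH (Y := Y) V h.two (EX V B ⊓ EX V C) ≤ TR V h.two P ∨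
      HH (Y := Y) V h.two (EX V B ⊓ EX V C) ⊓ TR V h.two P = ⊥ := by
  by_cases hb : HH (Y := Y) V h.two (EX V B ⊓ EX V C) ⊓ TR V h.two P = ⊥
  · exact Or.inr hb
  left
  obtain ⟨s, hs, hs1⟩ : ∃ s : Y, s ∈ HH (Y := Y) V h.two (EX V B ⊓ EX V C) ⊓ TR (Y := Y) V h.two P ∧ s ≠ 1 := by
    by_contra hcon
    push Not at hcon
    exact hb ((Subgroup.eq_bot_iff_forall _).2 hcon)
  intro y hy v
  obtain ⟨k, hk⟩ := h.scal hs.1 hs1 hy
  rw [hk]
  exact hP k _ (hs.2 v)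

end PD

end Cfsg.Agent.Omega.NO1.Lines
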