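import Cfsg.Agent.Omega.NO1.Lines.Pair
import Cfsg.Agent.Omega.NO1.Lines.GeoOf

/-!
# N1-ONE, THEOREM LINES (helper806, #18965): (0)-(4) closed

`Hyp.pd` : a bad pair of members satisfies the hypotheses of `Pair.lean`; **`Hyp.geo_all`** : `Geo`.
-/

set_option autoImplicit false

namespace Cfsg.Agent.Omega.NO1.Lines

open Subgroup
open Cfsg.Agent.Omega.NO1.Alpha (FX EX Mem)
open scoped Pointwise

universe u

namespace Hyp

variable {K V Y : Type u} [Field K] [AddCommGroup V] [Module K V] [Group Y] [DistribMulAction Y V]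
  {UU : Set (Subgroup Y)} (h : Hyp K V Y UU)
include h

theorem km {B : Subgroup Y} (hB : B ∈ UU) : KM K V B where
  finK := h.finK
  finV := h.finV
  finY := h.finY
  char := h.char
  two := h.two
  lin := h.lin B hB
  mem := h.mem B hB
  cardF := h.cardF hB

theorem pd {B C : Subgroup Y} (hB : B ∈ UU) (hC : C ∈ UU) (hb : Bad V B C) : PD K V B C where
  kB := h.km hB
  kC := h.km hC
  four := h.four
  faith := h.faith
  semi := h.semi
  noff := h.noff
  ne := hb.1
  FE := h.bad_le' hB hC hb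
  FE' := h.bad_le hB hC hb
  dis := fun _ hx hx' => h.disj hB hC hb.1 hx hx'
  bad := h.bad B hB
  bad' := h.bad C hC

theorem le_all (B : Subgroup Y) (hB : B ∈ UU) (C : Subgroup Y) (hC : C ∈ UU) (hb : Bad V B C) :
    HH (Y := Y) V h.two (EX V B ⊓ EX V C) ≤ B := (h.pd hB hC hb).HH_le

theorem card_all (B : Subgroup Y) (hB : B ∈ UU) (C : Subgroup Y) (hC : C ∈ UU) (hb : Bad V B C) :
    Nat.card (HH (Y := Y) V h.two (EX V B ⊓ EX V C)) = Nat.card K := (h.pd hB hC hb).card_HH

/-- **THEOREM LINES, (0)-(4)** -/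
theorem geo_all (hex : ∃ B ∈ UU, ∃ C ∈ UU, Bad V B C) : Geo (Nat.card K) h.two UU :=
  h.geo hex h.le_all h.card_all

end Hyp

end Cfsg.Agent.Omega.NO1.Lines
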