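import Cfsg.Agent.Omega.NO1.Lines.Base
import Cfsg.Agent.Omega.NO1.Lines.Grid

/-!
# N1-ONE, THEOREM LINES (#18965): (5) parity, (6) no triangles, the generalised quadrangle
-/

set_option autoImplicit false
set_option linter.unusedSectionVars false

namespace Cfsg.Agent.Omega.NO1.Lines

open Subgroup
open Cfsg.Agent.Omega.NO1.HE (dl dl_apply dl_one dl_eq_zero dl_comm dl_mul dl_self add_eq_zero' mem_conj)
open Cfsg.Agent.Omega.NO1.Alpha (FX EX Mem mem_FX mem_EX smul_mem_FX smul_mem_EX dl_conj conj_eq_iff FX_anti)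
open scoped Pointwise

universe u

variable {V Y : Type u} [AddCommGroup V] [Group Y] [DistribMulAction Y V]

/-! ### Conjugation -/

theorem dl_conj' (g b : Y) (v : V) : dl (g * b * g⁻¹) v = g • dl b (g⁻¹ • v) := by
  rw [← dl_conj, smul_inv_smul]

theorem mem_HH_conj (h2 : ∀ v : V, v + v = 0) {I J : AddSubgroup V} {g : Y} (hIJ : ∀ v, g • v ∈ J ↔ v ∈ I) {y : Y} :
    g * y * g⁻¹ ∈ HH V h2 J ↔ y ∈ HH V h2 I := by
  rw [mem_HH, mem_HH]
  constructor
  · rintro ⟨h1, h3⟩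
    refine ⟨fun x hx => ?_, fun v => ?_⟩
    · have h4 := h1 _ ((hIJ x).2 hx)
      rw [mul_smul, mul_smul, inv_smul_smul] at h4
      exact smul_left_cancel _ h4
    · have h4 := h3 (g • v)
      rw [dl_conj, hIJ] at h4
      exact h4
  · rintro ⟨h1, h3⟩
    have hJ : ∀ v, g⁻¹ • v ∈ I ↔ v ∈ J := fun v => by rw [← hIJ, smul_inv_smul]
    refine ⟨fun x hx => ?_, fun v => ?_⟩
    · rw [mul_smul, mul_smul, h1 _ ((hJ x).2 hx), smul_inv_smul]
    · rw [dl_conj', hIJ]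
      exact h3 _

theorem conj_HH (h2 : ∀ v : V, v + v = 0) {I J : AddSubgroup V} {g : Y} (hIJ : ∀ v, g • v ∈ J ↔ v ∈ I) :
    MulAut.conj g • (HH V h2 I : Subgroup Y) = HH V h2 J := by
  ext y
  rw [mem_conj]
  have e : y = g * (g⁻¹ * y * g) * g⁻¹ := by group
  rw [e, mem_HH_conj h2 hIJ]
  have e2 : g⁻¹ * (g * (g⁻¹ * y * g) * g⁻¹) * g = g⁻¹ * y * g := by group
  rw [e2]

theorem mem_inf_conj {B C : Subgroup Y} {g : Y} (v : V) :
    g • v ∈ EX V (MulAut.conj g • B) ⊓ EX V (MulAut.conj g • C) ↔ v ∈ EX V B ⊓ EX V C := by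
  rw [AddSubgroup.mem_inf, AddSubgroup.mem_inf, smul_mem_EX, smul_mem_EX]

theorem EX_conj_ne {B C : Subgroup Y} (g : Y) (h : EX V B ≠ EX V C) :
    EX V (MulAut.conj g • B) ≠ EX V (MulAut.conj g • C) := by
  intro h1
  apply h
  ext v
  rw [← smul_mem_EX (g := g), h1, smul_mem_EX]

theorem Bad.conj {B C : Subgroup Y} (h : Bad V B C) (g : Y) : Bad V (MulAut.conj g • B) (MulAut.conj g • C) := by
  obtain ⟨h1, x, hx, hx0, hxE⟩ := h
  refine ⟨EX_conj_ne g h1, g • x, smul_mem_FX.2 hx, fun h3 => hx0 ?_, smul_mem_EX.2 hxE⟩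
  rw [← smul_zero g] at h3
  exact smul_left_cancel _ h3

theorem LL_conj (h2 : ∀ v : V, v + v = 0) {UU : Set (Subgroup Y)}
    (hUU : ∀ B ∈ UU, ∀ y : Y, MulAut.conj y • B ∈ UU) {A : Subgroup Y} (hA : A ∈ LL V h2 UU) (g : Y) :
    MulAut.conj g • A ∈ LL V h2 UU := by
  obtain ⟨B, hB, C, hC, hBC, rfl⟩ := hA
  exact ⟨_, hUU B hB g, _, hUU C hC g, hBC.conj g, conj_HH h2 mem_inf_conj⟩

theorem dl_mem_CM {A : Subgroup Y} {s : Y} (hs : s ∈ A) (v : V) : dl s v ∈ CM V A :=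
  AddSubgroup.subset_closure ⟨s, hs, v, rfl⟩

theorem CM_le {A : Subgroup Y} {J : AddSubgroup V} (h : ∀ s ∈ A, ∀ v : V, dl s v ∈ J) : CM V A ≤ J := by
  rw [CM, AddSubgroup.closure_le]
  rintro _ ⟨s, hs, v, rfl⟩
  exact h s hs v

theorem conj_mono {A B : Subgroup Y} (g : Y) (h : A ≤ B) : MulAut.conj g • A ≤ MulAut.conj g • B := by
  intro y hy
  rw [mem_conj] at hy ⊢
  exact h hy

theorem conj_le_iff' {A B : Subgroup Y} (g : Y) : MulAut.conj g • A ≤ MulAut.conj g • B ↔ A ≤ B := by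
  refine ⟨fun h y hy => ?_, conj_mono g⟩
  have h1 : g * y * g⁻¹ ∈ MulAut.conj g • A := by
    rw [mem_conj]
    have e : g⁻¹ * (g * y * g⁻¹) * g = y := by group
    rwa [e]
  have h2 := mem_conj.1 (h h1)
  have e : g⁻¹ * (g * y * g⁻¹) * g = y := by group
  rwa [e] at h2

/-- conjugation by an element which commutes with all elements of `A` -/
theorem conj_eq_of_comm {A : Subgroup Y} {g : Y} (h : ∀ a ∈ A, g * a = a * g) : MulAut.conj g • A = A := by
  rw [conj_eq_iff, mem_normalizer_iff]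
  intro y
  constructor
  · intro hy
    have e : g * y * g⁻¹ = y := by rw [h y hy]; group
    rwa [e]
  · intro hy
    have h1 := h _ hy
    have e : y = g * y * g⁻¹ := by
      have e3 : g * (g * y * g⁻¹) * g⁻¹ = g * y * g⁻¹ := by rw [h1]; group
      have e4 := congrArg (fun z => g⁻¹ * z * g) e3
      simpa [mul_assoc] using e4.symm
    rwa [e]

/-! ### Parity -/

/-- a 2-group acting by conjugation on a finite set of subgroups -/
theorem card_fix [Finite Y] {Q : Subgroup Y} (hQ : IsPGroup 2 Q) (Λ : Set (Subgroup Y))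
    (h : ∀ q ∈ Q, ∀ A ∈ Λ, MulAut.conj q • A ∈ Λ) :
    Nat.card Λ ≡ Nat.card {A : Subgroup Y // A ∈ Λ ∧ ∀ q ∈ Q, MulAut.conj q • A = A} [MOD 2] := by
  have : Fact (Nat.Prime 2) := ⟨Nat.prime_two⟩
  let _ : MulAction Q Λ :=
    { smul := fun q A => ⟨MulAut.conj (q : Y) • (A : Subgroup Y), h q q.2 A A.2⟩
      one_smul := fun A => Subtype.ext (by
        show MulAut.conj ((1 : Q) : Y) • (A : Subgroup Y) = A
        rw [Subgroup.coe_one, map_one, one_smul])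
      mul_smul := fun q r A => Subtype.ext (by
        show MulAut.conj ((q * r : Q) : Y) • (A : Subgroup Y) = MulAut.conj (q : Y) • MulAut.conj (r : Y) • (A : Subgroup Y)
        rw [Subgroup.coe_mul, map_mul, mul_smul]) }
  have hfin : Finite (Subgroup Y) := inferInstance
  have h1 := hQ.card_modEq_card_fixedPoints Λ
  have h3 : Nat.card (MulAction.fixedPoints Q Λ) =
      Nat.card {A : Subgroup Y // A ∈ Λ ∧ ∀ q ∈ Q, MulAut.conj q • A = A} :=
    Nat.card_congr ⟨fun x => ⟨x.1.1, x.1.2, fun q hq => congrArg Subtype.val (x.2 ⟨q, hq⟩)⟩,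
      fun x => ⟨⟨x.1, x.2.1⟩, fun q => Subtype.ext (x.2.2 q q.2)⟩, fun x => rfl, fun x => rfl⟩
  rwa [h3] at h1

/-- the lines through `B` which contain a point of another maximal subgroup -/
def Lam (V : Type u) {Y : Type u} [AddCommGroup V] [Group Y] [DistribMulAction Y V] (h2 : ∀ v : V, v + v = 0)
    (UU : Set (Subgroup Y)) (B : Subgroup Y) : Set (Subgroup Y) :=
  {A | A ∈ LL V h2 UU ∧ A ≤ B ∧ ∃ C ∈ UU, A ≤ C ∧ normalizer (B : Set Y) ⊔ C = ⊤}

/-- the stabiliser of the chain `0 ≤ l ≤ I ≤ V` -/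
def ST (h2 : ∀ v : V, v + v = 0) (l I : AddSubgroup V) : Subgroup Y where
  carrier := {y | (∀ x ∈ l, y • x = x) ∧ (∀ x ∈ I, dl y x ∈ l) ∧ ∀ v : V, dl y v ∈ I}
  one_mem' := ⟨fun x _ => one_smul _ x, fun v _ => by rw [dl_one h2]; exact l.zero_mem,
    fun v => by rw [dl_one h2]; exact I.zero_mem⟩
  mul_mem' := by
    rintro y z ⟨hy, hy', hy''⟩ ⟨hz, hz', hz''⟩
    refine ⟨fun x hx => by rw [mul_smul, hz x hx, hy x hx], fun v hv => ?_, fun v => ?_⟩
    · rw [dl_mul h2]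
      refine l.add_mem (l.add_mem (hy' v hv) (hz' v hv)) ?_
      rw [(dl_eq_zero h2).2 (hy _ (hz' v hv))]
      exact l.zero_mem
    · rw [dl_mul h2]
      exact I.add_mem (I.add_mem (hy'' v) (hz'' v)) (hy'' _)
  inv_mem' := by
    rintro y ⟨hy, hy', hy''⟩
    have h1 : ∀ v : V, dl y⁻¹ v ∈ I := by
      intro v
      have h1 := hy'' (y⁻¹ • v)
      rw [dl_apply, smul_inv_smul, add_comm] at h1
      exact h1
    have h3 : ∀ x ∈ l, y⁻¹ • x = x := fun x hx => by rw [inv_smul_eq_iff, hy x hx]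
    refine ⟨h3, fun v hv => ?_, h1⟩
    have h4 : y⁻¹ • v ∈ I := by
      have h5 := I.add_mem (h1 v) hv
      rwa [dl_apply, add_assoc, h2, add_zero] at h5
    have h5 := hy' _ h4
    rw [dl_apply, smul_inv_smul, add_comm] at h5
    exact h5

theorem mem_ST (h2 : ∀ v : V, v + v = 0) {l I : AddSubgroup V} {y : Y} :
    y ∈ (ST h2 l I : Subgroup Y) ↔ (∀ x ∈ l, y • x = x) ∧ (∀ x ∈ I, dl y x ∈ l) ∧ ∀ v : V, dl y v ∈ I := Iff.rfl

theorem dl_sq (h2 : ∀ v : V, v + v = 0) (y : Y) (v : V) : dl (y * y) v = dl y (dl y v) := by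
  rw [dl_mul h2, h2, zero_add]

theorem ST_two (h2 : ∀ v : V, v + v = 0) (hf : ∀ y : Y, (∀ v : V, y • v = v) → y = 1) (l I : AddSubgroup V) :
    IsPGroup 2 (ST h2 l I : Subgroup Y) := by
  rintro ⟨y, hy, hy', hy''⟩
  refine ⟨2, Subtype.ext ?_⟩
  show y ^ 2 ^ 2 = 1
  have e : y ^ 2 ^ 2 = (y * y) * (y * y) := by
    rw [show 2 ^ 2 = 2 * 2 from rfl, pow_mul, pow_two, pow_two]
  rw [e]
  refine hf _ fun v => ?_
  rw [← dl_eq_zero h2, dl_sq h2, dl_sq h2, dl_sq h2]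
  have h1 : dl y (dl y v) ∈ l := hy' _ (hy'' v)
  rw [(dl_eq_zero h2).2 (hy _ h1), map_zero]

/-- **The Sylow part of the hypotheses**: `O₂(Y) = 1`, every Sylow group in a unique maximal subgroup, not (+). -/
structure Syl (V : Type u) {Y : Type u} [AddCommGroup V] [Group Y] [DistribMulAction Y V] (UU : Set (Subgroup Y)) :
    Prop where
  o2 : ∀ N : Subgroup Y, N.Normal → IsPGroup 2 N → N = ⊥
  uniq : ∀ T : Sylow 2 Y, ∃ M : Subgroup Y, M ≠ ⊤ ∧ ∀ H : Subgroup Y, (T : Subgroup Y) ≤ H → H ≠ ⊤ → H ≤ M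
  /-- not (+) -/
  np : ∃ B ∈ UU, ∃ C ∈ UU, Bad V B C ∧ normalizer (B : Set Y) ⊔ normalizer (C : Set Y) = ⊤

namespace Geo

variable {a : ℕ} {h2 : ∀ v : V, v + v = 0} {UU : Set (Subgroup Y)} (h : Geo a h2 UU)

include h

theorem two_pow {B : Subgroup Y} (hB : B ∈ UU) : IsPGroup 2 B := (h.mem B hB).two_pow

theorem comm {B : Subgroup Y} (hB : B ∈ UU) {x y : Y} (hx : x ∈ B) (hy : y ∈ B) : x * y = y * x :=
  (h.mem B hB).comm x hx y hy

/-- two members which generate a 2-group are equal -/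
theorem eq_of_two {B C : Subgroup Y} (hB : B ∈ UU) (hC : C ∈ UU) (h3 : IsPGroup 2 (B ⊔ C : Subgroup Y)) : B = C :=
  h.inj B hB C hC (h.upe B hB C hC h3)

theorem norm_of_fix {B : Subgroup Y} (hB : B ∈ UU) {x : V} (hx : x ∈ FX V B) (hx0 : x ≠ 0) {y : Y} (hy : y • x = x) :
    y ∈ normalizer (B : Set Y) :=
  conj_eq_iff.1 (h.inj _ (h.conj B hB y) B hB (h.bad B hB x hx hx0 y hy))

theorem le_norm_sup {B C : Subgroup Y} (hC : C ≤ normalizer (B : Set Y)) (h1 : IsPGroup 2 B) (h3 : IsPGroup 2 C) :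
    IsPGroup 2 (B ⊔ C : Subgroup Y) := h1.to_sup_of_normal_left' h3 hC

/-- different members have disjoint `F` -/
theorem disj {B C : Subgroup Y} (hB : B ∈ UU) (hC : C ∈ UU) (hne : B ≠ C) : FX V B ⊓ FX V C = ⊥ := by
  rw [eq_bot_iff]
  intro x hx
  rw [AddSubgroup.mem_bot]
  by_contra hx0
  refine hne (h.eq_of_two hB hC (h.le_norm_sup (fun c hc => ?_) (h.two_pow hB) (h.two_pow hC)))
  exact h.norm_of_fix hB hx.1 hx0 (hx.2 c hc)

theorem ne_bot {B : Subgroup Y} (hB : B ∈ UU) : B ≠ ⊥ := by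
  intro h1
  obtain ⟨b, hb, hb1⟩ := (h.mem B hB).exists_ne_one
  rw [h1, mem_bot] at hb
  exact hb1 hb

/-- a Sylow group over `B` normalises `B` -/
theorem syl_le {B : Subgroup Y} (hB : B ∈ UU) (T : Sylow 2 Y) (hBT : B ≤ (T : Subgroup Y)) :
    (T : Subgroup Y) ≤ normalizer (B : Set Y) := by
  intro t ht
  rw [← conj_eq_iff]
  have h1 : MulAut.conj t • B ≤ (T : Subgroup Y) := by
    intro y hy
    have h3 := hBT (mem_conj.1 hy)
    have e : y = t * (t⁻¹ * y * t) * t⁻¹ := by group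
    rw [e]
    exact mul_mem (mul_mem ht h3) (inv_mem ht)
  exact (h.eq_of_two hB (h.conj B hB t) (T.isPGroup'.to_le (sup_le hBT h1))).symm

theorem exists_syl [Finite Y] {B : Subgroup Y} (hB : B ∈ UU) : ∃ T : Sylow 2 Y, B ≤ (T : Subgroup Y) :=
  (h.two_pow hB).exists_le_sylow

theorem norm_ne_top (s : Syl V UU) {B : Subgroup Y} (hB : B ∈ UU) : normalizer (B : Set Y) ≠ ⊤ := by
  intro h1
  refine h.ne_bot hB (s.o2 B ?_ (h.two_pow hB))
  exact normalizer_eq_top_iff.1 h1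

/-- **(P3)** `⟨N(B), N(C)⟩ = Y` implies `⟨N(B), C⟩ = Y` -/
theorem far [Finite Y] (s : Syl V UU) {B C : Subgroup Y} (hB : B ∈ UU) (hC : C ∈ UU)
    (h1 : normalizer (B : Set Y) ⊔ normalizer (C : Set Y) = ⊤) : normalizer (B : Set Y) ⊔ C = ⊤ := by
  have : Fact (Nat.Prime 2) := ⟨Nat.prime_two⟩
  by_contra hne
  set H : Subgroup Y := normalizer (B : Set Y) ⊔ C with hH
  obtain ⟨T, hT⟩ := h.exists_syl hB
  have hTH : (T : Subgroup Y) ≤ H := (h.syl_le hB T hT).trans le_sup_left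
  have hCH : C ≤ H := le_sup_right
  have hC2 : IsPGroup 2 (C.subgroupOf H) := (h.two_pow hC).comap_of_injective _ H.subtype_injective
  obtain ⟨R, hR⟩ := hC2.exists_le_sylow
  obtain ⟨k, hk⟩ := MulAction.exists_smul_eq H (T.subtype hTH) R
  set T1 : Sylow 2 Y := (k : Y) • T with hT1
  have hmem : ∀ y : Y, y ∈ (T1 : Subgroup Y) ↔ (k : Y)⁻¹ * y * k ∈ (T : Subgroup Y) := by
    intro y
    rw [hT1, Sylow.coe_subgroup_smul]
    exact mem_conj
  have hCT : C ≤ (T1 : Subgroup Y) := by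
    intro c hc
    have h3 : (⟨c, hCH hc⟩ : H) ∈ (R : Subgroup H) := hR (mem_subgroupOf.2 hc)
    rw [← hk, Sylow.coe_subgroup_smul] at h3
    have h4 := mem_conj.1 h3
    have h5 := mem_subgroupOf.1 h4
    rw [hmem]
    simpa using h5
  have hT1H : (T1 : Subgroup Y) ≤ H := by
    intro y hy
    have h3 := hTH ((hmem y).1 hy)
    have e : y = (k : Y) * ((k : Y)⁻¹ * y * k) * (k : Y)⁻¹ := by group
    rw [e]
    exact mul_mem (mul_mem k.2 h3) (inv_mem k.2)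
  obtain ⟨M, hM, hMax⟩ := s.uniq T1
  have h3 := hMax H hT1H hne
  have h4 := hMax _ (h.syl_le hC T1 hCT) (h.norm_ne_top s hC)
  apply hM
  rw [eq_top_iff, ← h1]
  exact sup_le (le_sup_left.trans h3) h4

theorem Lam_conj {B : Subgroup Y} {y : Y} (hy : y ∈ normalizer (B : Set Y)) {A : Subgroup Y}
    (hA : A ∈ Lam V h2 UU B) : MulAut.conj y • A ∈ Lam V h2 UU B := by
  obtain ⟨h1, h3, C, hC, hAC, h4⟩ := hA
  refine ⟨LL_conj h2 h.conj h1 y, ?_, MulAut.conj y • C, h.conj C hC y, conj_mono y hAC, ?_⟩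
  · have := conj_mono y h3
    rwa [conj_eq_iff.2 hy] at this
  · rw [eq_top_iff, ← h4]
    refine sup_le le_sup_left fun c hc => ?_
    have h5 : y * c * y⁻¹ ∈ normalizer (B : Set Y) ⊔ MulAut.conj y • C := by
      refine mem_sup_right ?_
      rw [mem_conj]
      have e : y⁻¹ * (y * c * y⁻¹) * y = c := by group
      rwa [e]
    have hy' : y ∈ normalizer (B : Set Y) ⊔ MulAut.conj y • C := mem_sup_left hy
    have e : c = y⁻¹ * (y * c * y⁻¹) * y := by group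
    rw [e]
    exact mul_mem (mul_mem (inv_mem hy') h5) hy'

theorem A_ne_bot {A : Subgroup Y} (hA : A ∈ LL V h2 UU) : A ≠ ⊥ := by
  intro h1
  have h3 := h.cardA A hA
  rw [h1, Nat.card_unique] at h3
  have := h.four
  omega

theorem A_sub {A : Subgroup Y} (hA : A ∈ LL V h2 UU) : ∃ B ∈ UU, ∃ C ∈ UU, B ≠ C ∧ A ≤ B ∧ A ≤ C := by
  obtain ⟨B, hB, C, hC, hBC, rfl⟩ := hA
  exact ⟨B, hB, C, hC, fun e => hBC.1 (by rw [e]), (h.le B hB C hC hBC).trans inf_le_left,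
    (h.le B hB C hC hBC).trans inf_le_right⟩

/-- members normalise their lines -/
theorem le_norm_A {A B : Subgroup Y} (hB : B ∈ UU) (hAB : A ≤ B) : B ≤ normalizer (A : Set Y) := by
  intro b hb
  rw [← conj_eq_iff]
  exact conj_eq_of_comm fun x hx => h.comm hB hb (hAB hx)

theorem norm_A_ne_top (s : Syl V UU) {A : Subgroup Y} (hA : A ∈ LL V h2 UU) : normalizer (A : Set Y) ≠ ⊤ := by
  intro h1
  obtain ⟨B, hB, _, _, -, hAB, -⟩ := h.A_sub hA
  exact h.A_ne_bot hA (s.o2 A (normalizer_eq_top_iff.1 h1) ((h.two_pow hB).to_le hAB))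

/-- no Sylow group over `B` fixes a line of `Lam` -/
theorem not_fixed (s : Syl V UU) {B : Subgroup Y} (hB : B ∈ UU) (T : Sylow 2 Y) (hBT : B ≤ (T : Subgroup Y))
    {A : Subgroup Y} (hA : A ∈ Lam V h2 UU B) (hfix : ∀ t ∈ (T : Subgroup Y), MulAut.conj t • A = A) : False := by
  obtain ⟨h1, h3, C, hC, hAC, h4⟩ := hA
  obtain ⟨M, hM, hMax⟩ := s.uniq T
  have h5 := hMax _ (fun t ht => conj_eq_iff.1 (hfix t ht)) (h.norm_A_ne_top s h1)
  have h6 := hMax _ (h.syl_le hB T hBT) (h.norm_ne_top s hB)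
  apply hM
  rw [eq_top_iff, ← h4]
  exact sup_le h6 ((h.le_norm_A hC hAC).trans h5)

/-- **Parity**: a 2-group in `N(B)` which fixes a line of `Lam` fixes another one. -/
theorem exists_other [Finite Y] (s : Syl V UU) {B : Subgroup Y} (hB : B ∈ UU) {Q : Subgroup Y} (hQ : IsPGroup 2 Q)
    (hQB : Q ≤ normalizer (B : Set Y)) {A : Subgroup Y} (hA : A ∈ Lam V h2 UU B)
    (hfix : ∀ q ∈ Q, MulAut.conj q • A = A) :
    ∃ A' ∈ Lam V h2 UU B, A' ≠ A ∧ ∀ q ∈ Q, MulAut.conj q • A' = A' := by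
  obtain ⟨T, hT⟩ := h.exists_syl hB
  have h1 := card_fix T.isPGroup' (Lam V h2 UU B) fun t ht A hA => h.Lam_conj (h.syl_le hB T hT ht) hA
  have h3 := card_fix hQ (Lam V h2 UU B) fun t ht A hA => h.Lam_conj (hQB ht) hA
  have h4 : IsEmpty {A : Subgroup Y // A ∈ Lam V h2 UU B ∧ ∀ q ∈ (T : Subgroup Y), MulAut.conj q • A = A} :=
    ⟨fun x => h.not_fixed s hB T hT x.2.1 x.2.2⟩
  have h6 : Nat.card {A : Subgroup Y // A ∈ Lam V h2 UU B ∧ ∀ q ∈ (T : Subgroup Y), MulAut.conj q • A = A} = 0 :=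
    @Nat.card_of_isEmpty _ h4
  rw [h6] at h1
  by_contra hcon
  push Not at hcon
  have h5 : Nat.card {A : Subgroup Y // A ∈ Lam V h2 UU B ∧ ∀ q ∈ Q, MulAut.conj q • A = A} = 1 := by
    rw [Nat.card_eq_one_iff_unique]
    refine ⟨⟨fun x y => ?_⟩, ⟨⟨A, hA, hfix⟩⟩⟩
    have key : ∀ z : {A : Subgroup Y // A ∈ Lam V h2 UU B ∧ ∀ q ∈ Q, MulAut.conj q • A = A}, z.1 = A := by
      intro z
      by_contra hz
      obtain ⟨q, hq, hq'⟩ := hcon z.1 z.2.1 hz
      exact hq' (z.2.2 q hq)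
    exact Subtype.ext ((key x).trans (key y).symm)
  rw [h5] at h3
  exact absurd (h1.symm.trans h3) (by decide)

theorem exists_F {B : Subgroup Y} (hB : B ∈ UU) : ∃ x ∈ FX V B, x ≠ 0 := by
  by_contra hcon
  push Not at hcon
  have h1 : FX V B = ⊥ := by
    rw [eq_bot_iff]
    exact fun x hx => by rw [AddSubgroup.mem_bot]; exact hcon x hx
  have h3 := h.cardF B hB
  rw [h1] at h3
  have h4 : Nat.card (⊥ : AddSubgroup V) = 1 := by simp
  have := h.four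
  omega

theorem bad_ne {B C : Subgroup Y} (hBC : Bad V B C) : B ≠ C := fun e => hBC.1 (by rw [e])

/-- `Bad` is symmetric -/
theorem symm {B C : Subgroup Y} (hB : B ∈ UU) (hC : C ∈ UU) (hBC : Bad V B C) : Bad V C B := by
  have h1 := h.le B hB C hC hBC
  exact (h.com _ ⟨B, hB, C, hC, hBC, rfl⟩ C hC B hB (h1.trans inf_le_right) (h1.trans inf_le_left)
    (h.bad_ne hBC).symm).1

/-- an element with `[V, s] ≤ E_C` normalises `C` -/
theorem norm_of_dl {C : Subgroup Y} (hC : C ∈ UU) {s : Y} (hs : ∀ v : V, dl s v ∈ EX V C) :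
    s ∈ normalizer (C : Set Y) := by
  refine conj_eq_iff.1 (h.inj _ (h.conj C hC s) C hC ?_)
  have key : ∀ v : V, s • v ∈ EX V C ↔ v ∈ EX V C := by
    intro v
    have h1 := hs v
    rw [dl_apply] at h1
    constructor
    · intro h3
      have h4 := (EX V C).sub_mem h1 h3
      rwa [add_sub_cancel_left] at h4
    · intro h3
      have h4 := (EX V C).sub_mem h1 h3
      rwa [add_sub_cancel_right] at h4
  ext w
  have h1 := smul_mem_EX (B := C) (g := s) (v := s⁻¹ • w)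
  rw [smul_inv_smul] at h1
  rw [h1, ← key, smul_inv_smul]

/-- the points of the lines of `Lam` -/
theorem Lam_ne (s : Syl V UU) {B A : Subgroup Y} (hB : B ∈ UU) (hA : A ∈ Lam V h2 UU B) :
    ∃ D ∈ UU, D ≠ B ∧ A ≤ D ∧ normalizer (B : Set Y) ⊔ D = ⊤ := by
  obtain ⟨-, -, D, hD, hAD, h4⟩ := hA
  refine ⟨D, hD, ?_, hAD, h4⟩
  rintro rfl
  apply h.norm_ne_top s hD
  rwa [sup_eq_left.2 le_normalizer] at h4

/-- **(5)** -/
theorem small (s : Syl V UU) : ∃ B ∈ UU, ∃ A ∈ LL V h2 UU, ∃ A' ∈ LL V h2 UU, A ≠ A' ∧ A ≤ B ∧ A' ≤ B ∧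
    ∃ C ∈ UU, Nat.card C = a * a := by
  have := h.finY
  have := h.finV
  obtain ⟨B, hB, C, hC, hBC, htop⟩ := s.np
  have hCB := h.symm hB hC hBC
  have hne := h.bad_ne hBC
  set I := EX V B ⊓ EX V C with hI
  have hIc : EX V C ⊓ EX V B = I := by rw [hI, inf_comm]
  set A₁ : Subgroup Y := HH V h2 I with hA₁
  have hA₁L : A₁ ∈ LL V h2 UU := ⟨B, hB, C, hC, hBC, rfl⟩
  have hle := h.le B hB C hC hBC
  have hA₁B : A₁ ≤ B := hle.trans inf_le_left
  have hA₁C : A₁ ≤ C := hle.trans inf_le_right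
  have hfar := h.far s hB hC htop
  have hA₁Lam : A₁ ∈ Lam V h2 UU B := ⟨hA₁L, hA₁B, C, hC, hA₁C, hfar⟩
  obtain ⟨-, -, hcm, -⟩ := h.com A₁ hA₁L B hB C hC hA₁B hA₁C hne
  -- the group `Q`
  set Q : Subgroup Y := ST h2 (FX V B ⊔ FX V C) I with hQ
  have hQ2 : IsPGroup 2 Q := ST_two h2 h.faith _ _
  have hC₀ : C ⊓ normalizer (B : Set Y) ≤ Q := by
    intro c hc
    obtain ⟨h1, h3, h4⟩ := h.tri C hC B hB hCB c hc
    rw [hIc] at h3 h4
    rw [sup_comm] at h1 h3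
    exact ⟨h1, h3, h4⟩
  have hQB : Q ≤ normalizer (B : Set Y) := by
    intro y hy
    obtain ⟨x, hx, hx0⟩ := h.exists_F hB
    exact h.norm_of_fix hB hx hx0 (hy.1 x (AddSubgroup.mem_sup_left hx))
  have hQA : ∀ q ∈ Q, MulAut.conj q • A₁ = A₁ := by
    intro q hq
    refine conj_HH h2 fun v => ?_
    have h1 := hq.2.2 v
    rw [dl_apply] at h1
    constructor
    · intro h3
      have h4 := I.sub_mem h1 h3
      rwa [add_sub_cancel_left] at h4
    · intro h3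
      have h4 := I.sub_mem h1 h3
      rwa [add_sub_cancel_right] at h4
  obtain ⟨A₂, hA₂, hne2, hfix2⟩ := h.exists_other s hB hQ2 hQB hA₁Lam hQA
  refine ⟨B, hB, A₁, hA₁L, A₂, hA₂.1, hne2.symm, hA₁B, hA₂.2.1, C, hC, ?_⟩
  obtain ⟨D, hD, hDB, hA₂D, -⟩ := h.Lam_ne s hB hA₂
  obtain ⟨-, -, hcm2, -⟩ := h.com A₂ hA₂.1 B hB D hD hA₂.2.1 hA₂D hDB.symm
  obtain ⟨-, hmeet⟩ := h.meet A₁ hA₁L A₂ hA₂.1 B hB hA₁B hA₂.2.1 hne2.symm
  have hlin : ∀ c ∈ C ⊓ normalizer (B : Set Y), ∀ x ∈ CM V A₂, dl c x ∈ FX V B := fun c hc x hx =>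
    h.lin A₂ hA₂.1 B hB hA₂.2.1 C hC c hc.1 (hfix2 c (hC₀ hc)) hc.2 x hx
  rcases h.sub0 B hB C hC hBC A₂ hA₂.1 hA₂.2.1 with h5 | h5
  · -- (i)
    exfalso
    have h6 : CM V A₂ ≤ EX V C := by
      refine CM_le fun x hx v => ?_
      exact ((h.tri B hB C hC hBC x ⟨hA₂.2.1 hx, h5 hx⟩).2.2 v).2
    have h7 : CM V A₂ ≤ CM V A₁ := by
      intro x hx
      rw [hcm, sup_comm, ← h.fix0 C hC B hB hCB]
      intro c hc
      have h8 := hlin c hc x hx
      have h9 : dl c x ∈ FX V C := h6 hx c hc.1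
      have h10 : dl c x ∈ FX V B ⊓ FX V C := ⟨h8, h9⟩
      rw [h.disj hB hC hne, AddSubgroup.mem_bot] at h10
      exact (dl_eq_zero h2).1 h10
    rw [inf_eq_right.2 h7, hcm2] at hmeet
    have h8 : FX V D ≤ FX V B := hmeet ▸ le_sup_right
    obtain ⟨x, hx, hx0⟩ := h.exists_F hD
    have h9 : x ∈ FX V B ⊓ FX V D := ⟨h8 hx, hx⟩
    rw [h.disj hB hD hDB.symm, AddSubgroup.mem_bot] at h9
    exact hx0 h9
  · -- (ii)
    have h6 : ∃ x ∈ CM V A₂, x ∉ EX V C := by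
      by_contra hcon
      push Not at hcon
      apply h.A_ne_bot hA₂.1
      rw [eq_bot_iff, ← h5]
      intro x hx
      exact ⟨hx, h.norm_of_dl hC fun v => hcon _ (dl_mem_CM hx v)⟩
    obtain ⟨x, hx, hxC⟩ := h6
    have h7 : Nat.card ↥(C ⊓ normalizer (B : Set Y)) ≤ a := by
      rw [← h.cardF B hB]
      refine Nat.card_le_card_of_injective (fun c => (⟨dl (c : Y) x, hlin c c.2 x hx⟩ : FX V B)) ?_
      intro c d hcd
      have h8 : dl (c : Y) x = dl (d : Y) x := congrArg Subtype.val hcd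
      rw [dl_apply, dl_apply, add_left_inj] at h8
      have h9 : ((d : Y)⁻¹ * c) • x = x := by rw [mul_smul, h8, inv_smul_smul]
      by_contra hcd'
      refine hxC ((h.mem C hC).mem_of_fix h2 (mul_mem (inv_mem d.2.1) c.2.1) (fun e => hcd' ?_) h9)
      exact Subtype.ext (inv_mul_eq_one.1 e).symm
    have h8 : a ≤ Nat.card ↥(C ⊓ normalizer (B : Set Y)) := by
      rw [← h.cardA A₁ hA₁L]
      refine card_le_of_le ?_
      exact le_inf hA₁C (hA₁B.trans le_normalizer)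
    rw [h.ind0 C hC B hB hCB, le_antisymm h7 h8]

end Geo

end Cfsg.Agent.Omega.NO1.Lines
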