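import Cfsg.Agent.Omega.NO1.Lines.Parity

/-!
# N1-ONE, THEOREM LINES (#18965): (6) no triangles, the generalised quadrangle, (7), (8)
-/

set_option autoImplicit false
set_option linter.unusedSectionVars false

namespace Cfsg.Agent.Omega.NO1.Lines

open Subgroup
open Cfsg.Agent.Omega.NO1.HE (dl dl_apply dl_one dl_eq_zero dl_comm dl_mul dl_self add_eq_zero' mem_conj)
open Cfsg.Agent.Omega.NO1.Alpha (FX EX Mem mem_FX mem_EX smul_mem_FX smul_mem_EX dl_conj conj_eq_iff FX_anti)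
open scoped Pointwise

universe u

variable {V Y : Type u} [AddCommGroup V] [Group Y] [DistribMulAction Y V]

/-! ### Cardinalities -/

/-- `|A + B| |A ∩ B| = |A| |B|` -/
theorem card_sup_mul_inf (A B : AddSubgroup V) :
    Nat.card ↥(A ⊔ B) * Nat.card ↥(A ⊓ B) = Nat.card A * Nat.card B := by
  have h1 := AddSubgroup.relIndex_mul_relIndex ⊥ A (A ⊔ B) bot_le le_sup_left
  have h3 := AddSubgroup.relIndex_mul_relIndex ⊥ (A ⊓ B) B bot_le inf_le_right
  rw [AddSubgroup.relIndex_bot_left, AddSubgroup.relIndex_bot_left, AddSubgroup.relIndex_sup_left] at h1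
  rw [AddSubgroup.relIndex_bot_left, AddSubgroup.relIndex_bot_left, AddSubgroup.inf_relIndex_right] at h3
  rw [← h1, ← h3]
  ring

/-- `|E| = |B| |F|` for a member -/
theorem card_E {a : ℕ} (h2 : ∀ v : V, v + v = 0) {B : Subgroup Y} (m : Mem V a B) :
    Nat.card (EX V B) = Nat.card B * Nat.card (FX V B) := by
  obtain ⟨w, hw⟩ := m.ne
  rw [← Nat.card_prod]
  symm
  refine Nat.card_congr (Equiv.ofBijective
    (fun x : B × FX V B => (⟨dl (x.1 : Y) w + x.2, (EX V B).add_mem (m.VB _ x.1.2 w) (m.FE h2 x.2.2)⟩ : EX V B)) ⟨?_, ?_⟩)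
  · rintro ⟨b, f⟩ ⟨c, g⟩ hbc
    have h1 : dl (b : Y) w + f = dl (c : Y) w + g := congrArg Subtype.val hbc
    have h3 : dl ((b : Y) * c) w ∈ FX V B := by
      rw [dl_mul h2]
      refine (FX V B).add_mem ?_ (m.VB _ c.2 w _ b.2)
      have e : dl (b : Y) w + dl (c : Y) w = f + g := by
        have h4 : dl (b : Y) w + f + (dl (c : Y) w + f) = dl (c : Y) w + g + (dl (c : Y) w + f) := by rw [h1]
        have e1 : dl (b : Y) w + f + (dl (c : Y) w + f) = dl (b : Y) w + dl (c : Y) w + ((f : V) + f) := by abel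
        have e2 : dl (c : Y) w + g + (dl (c : Y) w + f) = (dl (c : Y) w + dl (c : Y) w) + (f + g) := by abel
        rw [e1, e2, h2, h2, add_zero, zero_add] at h4
        exact h4
      rw [e]
      exact (FX V B).add_mem f.2 g.2
    have h4 := m.inj w hw _ (mul_mem b.2 c.2) h3
    have h5 : (b : Y) = c := by
      rw [← m.inv_eq c.2]
      exact eq_inv_of_mul_eq_one_left h4
    have h6 : b = c := Subtype.ext h5
    subst h6
    exact Prod.ext rfl (Subtype.ext (add_left_cancel h1))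
  · rintro ⟨e, he⟩
    obtain ⟨b, hb, h1⟩ := m.surj w hw e he
    refine ⟨(⟨b, hb⟩, ⟨dl b w + e, h1⟩), Subtype.ext ?_⟩
    show dl b w + (dl b w + e) = e
    rw [← add_assoc, h2, zero_add]

namespace Geo

variable {a : ℕ} {h2 : ∀ v : V, v + v = 0} {UU : Set (Subgroup Y)} (h : Geo a h2 UU)

include h

omit h in
theorem card_conj {B : Subgroup Y} (y : Y) : Nat.card ↥(MulAut.conj y • B) = Nat.card B :=
  Nat.card_congr (Subgroup.equivSMul (MulAut.conj y) B).toEquiv.symm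

/-- all members have order `a²` -/
theorem cardB (s : Syl V UU) {B : Subgroup Y} (hB : B ∈ UU) : Nat.card B = a * a := by
  obtain ⟨-, -, -, -, -, -, -, -, -, C, hC, h1⟩ := h.small s
  obtain ⟨y, rfl⟩ := h.cls C hC B hB
  rw [card_conj, h1]

theorem cardE (s : Syl V UU) {B : Subgroup Y} (hB : B ∈ UU) : Nat.card (EX V B) = a * a * a := by
  rw [card_E h2 (h.mem B hB), h.cardB s hB, h.cardF B hB]

theorem cardV (s : Syl V UU) : Nat.card V = a * a * a * a := by
  obtain ⟨B, hB, -⟩ := h.small s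
  rw [← AddSubgroup.card_mul_index (EX V B), h.cardE s hB, (h.mem B hB).ind]

theorem cardl {B C : Subgroup Y} (hB : B ∈ UU) (hC : C ∈ UU) (hne : B ≠ C) :
    Nat.card ↥(FX V B ⊔ FX V C) = a * a := by
  have h1 := card_sup_mul_inf (FX V B) (FX V C)
  rw [h.disj hB hC hne, h.cardF B hB, h.cardF C hC] at h1
  have h4 : Nat.card (⊥ : AddSubgroup V) = 1 := by simp
  rwa [h4, mul_one] at h1

theorem cardI (s : Syl V UU) {B C : Subgroup Y} (hB : B ∈ UU) (hC : C ∈ UU) (hne : B ≠ C) :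
    Nat.card ↥(EX V B ⊓ EX V C) = a * a := by
  have h1 := card_sup_mul_inf (EX V B) (EX V C)
  rw [h.sup B hB C hC fun e => hne (h.inj B hB C hC e), h.cardE s hB, h.cardE s hC, AddSubgroup.card_top,
    h.cardV s] at h1
  have ha : 0 < a * a * a * a := by
    have := h.four
    positivity
  have e : a * a * a * (a * a * a) = a * a * a * a * (a * a) := by ring
  rw [e] at h1
  exact Nat.eq_of_mul_eq_mul_left ha h1

/-- **`I = l`** -/
theorem CM_eq_FX (s : Syl V UU) {A : Subgroup Y} (hA : A ∈ LL V h2 UU) : CM V A = FX V A := by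
  have := h.finV
  obtain ⟨B, hB, C, hC, hne, hAB, hAC⟩ := h.A_sub hA
  obtain ⟨-, -, h1, h3⟩ := h.com A hA B hB C hC hAB hAC hne
  rw [h1, h3]
  refine AddSubgroup.eq_of_le_of_card_ge ?_ ?_
  · rw [← h1, ← h3]
    refine CM_le fun x hx v => ?_
    rw [h3]
    exact ⟨(h.mem B hB).VB x (hAB hx) v, (h.mem C hC).VB x (hAC hx) v⟩
  · rw [h.cardl hB hC hne, h.cardI s hB hC hne]

/-- a line through two members -/
theorem unique {A A' B C : Subgroup Y} (hA : A ∈ LL V h2 UU) (hA' : A' ∈ LL V h2 UU) (hB : B ∈ UU) (hC : C ∈ UU)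
    (hne : B ≠ C) (h1 : A ≤ B) (h3 : A ≤ C) (h4 : A' ≤ B) (h5 : A' ≤ C) : A = A' := by
  rw [(h.com A hA B hB C hC h1 h3 hne).2.1, (h.com A' hA' B hB C hC h4 h5 hne).2.1]

/-- **(6)** no triangles -/
theorem no_tri (s : Syl V UU) {A A' A'' B C D : Subgroup Y} (hA : A ∈ LL V h2 UU) (hA' : A' ∈ LL V h2 UU)
    (hA'' : A'' ∈ LL V h2 UU) (hB : B ∈ UU) (hC : C ∈ UU) (hD : D ∈ UU) (hBC : B ≠ C) (hCD : C ≠ D) (hBD : B ≠ D)
    (h1 : A ≤ B) (h3 : A ≤ C) (h4 : A' ≤ C) (h5 : A' ≤ D) (h6 : A'' ≤ B) (h7 : A'' ≤ D) : A = A' := by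
  obtain ⟨x, hx, hx0⟩ := h.exists_F hD
  have h8 : x ∈ EX V B := by
    have h9 : x ∈ CM V A'' := by
      rw [(h.com A'' hA'' B hB D hD h6 h7 hBD).2.2.1]
      exact AddSubgroup.mem_sup_right hx
    rw [h.CM_eq_FX s hA'', (h.com A'' hA'' B hB D hD h6 h7 hBD).2.2.2] at h9
    exact h9.1
  have h9 : x ∈ EX V C := by
    have h9 : x ∈ CM V A' := by
      rw [(h.com A' hA' C hC D hD h4 h5 hCD).2.2.1]
      exact AddSubgroup.mem_sup_right hx
    rw [h.CM_eq_FX s hA', (h.com A' hA' C hC D hD h4 h5 hCD).2.2.2] at h9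
    exact h9.1
  have h10 : x ∈ CM V A := by
    rw [h.CM_eq_FX s hA, (h.com A hA B hB C hC h1 h3 hBC).2.2.2]
    exact ⟨h8, h9⟩
  obtain ⟨B', hB', hAB', hxB'⟩ := h.pts A hA x h10 hx0
  have h11 : B' = D := by
    by_contra hne
    have h12 : x ∈ FX V B' ⊓ FX V D := ⟨hxB', hx⟩
    rw [h.disj hB' hD hne, AddSubgroup.mem_bot] at h12
    exact hx0 h12
  subst h11
  exact h.unique hA hA' hC hB' hCD h3 hAB' h4 h5

/-- `Y` acts on the points -/
@[reducible] def ptAct : MulAction Y UU where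
  smul y B := ⟨MulAut.conj y • (B : Subgroup Y), h.conj B B.2 y⟩
  one_smul B := Subtype.ext (by
    show MulAut.conj (1 : Y) • (B : Subgroup Y) = B
    rw [map_one, one_smul])
  mul_smul y z B := Subtype.ext (by
    show MulAut.conj (y * z) • (B : Subgroup Y) = MulAut.conj y • MulAut.conj z • (B : Subgroup Y)
    rw [map_mul, mul_smul])

/-- `Y` acts on the lines -/
@[reducible] def lnAct : MulAction Y (LL V h2 UU) where
  smul y A := ⟨MulAut.conj y • (A : Subgroup Y), LL_conj h2 h.conj A.2 y⟩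
  one_smul B := Subtype.ext (by
    show MulAut.conj (1 : Y) • (B : Subgroup Y) = B
    rw [map_one, one_smul])
  mul_smul y z B := Subtype.ext (by
    show MulAut.conj (y * z) • (B : Subgroup Y) = MulAut.conj y • MulAut.conj z • (B : Subgroup Y)
    rw [map_mul, mul_smul])

/-- two lines through every point -/
theorem two_lines (s : Syl V UU) {D : Subgroup Y} (hD : D ∈ UU) :
    ∃ A ∈ LL V h2 UU, ∃ A' ∈ LL V h2 UU, A ≠ A' ∧ A ≤ D ∧ A' ≤ D := by
  obtain ⟨B, hB, A, hA, A', hA', hne, h1, h3, -⟩ := h.small s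
  obtain ⟨y, rfl⟩ := h.cls B hB D hD
  refine ⟨_, LL_conj h2 h.conj hA y, _, LL_conj h2 h.conj hA' y, fun e => hne ?_, conj_mono y h1, conj_mono y h3⟩
  exact smul_left_cancel _ e

/-- the polar axiom -/
theorem polar (s : Syl V UU) {A D : Subgroup Y} (hA : A ∈ LL V h2 UU) (hD : D ∈ UU) :
    ∃ B ∈ UU, ∃ A' ∈ LL V h2 UU, A ≤ B ∧ A' ≤ B ∧ A' ≤ D := by
  have := h.finV
  have h1 : ∃ x ∈ CM V A, x ∈ EX V D ∧ x ≠ 0 := by
    by_contra hcon
    push Not at hcon
    obtain ⟨B, hB, C, hC, hne, hAB, hAC⟩ := h.A_sub hA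
    have h3 : Nat.card (CM V A) = a * a := by
      rw [(h.com A hA B hB C hC hAB hAC hne).2.2.1, h.cardl hB hC hne]
    have h4 := card_sup_mul_inf (CM V A) (EX V D)
    have h5 : CM V A ⊓ EX V D = ⊥ := by
      rw [eq_bot_iff]
      rintro x ⟨hx, hx'⟩
      rw [AddSubgroup.mem_bot]
      exact hcon x hx hx'
    have h6 : Nat.card (⊥ : AddSubgroup V) = 1 := by simp
    rw [h5, h6, mul_one, h3, h.cardE s hD] at h4
    have h7 : Nat.card ↥(CM V A ⊔ EX V D) ≤ Nat.card V :=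
      Nat.card_le_card_of_injective _ Subtype.val_injective
    rw [h4, h.cardV s] at h7
    have h8 := h.four
    have h9 : a * a * (a * a * a) = a * (a * a * a * a) := by ring
    rw [h9] at h7
    have h10 : 0 < a * a * a * a := by positivity
    nlinarith
  obtain ⟨x, hx, hxD, hx0⟩ := h1
  obtain ⟨B, hB, hAB, hxB⟩ := h.pts A hA x hx hx0
  by_cases hBD : B = D
  · subst hBD
    exact ⟨B, hB, A, hA, hAB, hAB, hAB⟩
  · have hbad : Bad V D B := ⟨fun e => hBD (h.inj B hB D hD e.symm), x, hxB, hx0, hxD⟩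
    have h3 := h.le D hD B hB hbad
    exact ⟨B, hB, _, ⟨D, hD, B, hB, hbad, rfl⟩, hAB, h3.trans inf_le_right, h3.trans inf_le_left⟩

/-- **the generalised quadrangle** -/
theorem gq (s : Syl V UU) : letI := h.ptAct; letI := h.lnAct
    Grid.GQ (Y := Y) (fun (p : UU) (l : LL V h2 UU) => (l : Subgroup Y) ≤ p) (fun l => (l : Subgroup Y))
      (fun p => (p : Subgroup Y)) := by
  let _ := h.ptAct
  let _ := h.lnAct
  have hp : ∀ (g : Y) (p : UU), ((g • p : UU) : Subgroup Y) = MulAut.conj g • (p : Subgroup Y) := fun _ _ => rfl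
  have hl : ∀ (g : Y) (l : LL V h2 UU), ((g • l : LL V h2 UU) : Subgroup Y) = MulAut.conj g • (l : Subgroup Y) :=
    fun _ _ => rfl
  constructor
  · intro g p l hI
    exact conj_mono g hI
  · intro p q l m hpq h1 h3 h4 h5
    exact Subtype.ext (h.unique l.2 m.2 p.2 q.2 (fun e => hpq (Subtype.ext e)) h1 h3 h4 h5)
  · intro p l
    obtain ⟨B, hB, A', hA', h1, h3, h4⟩ := h.polar s l.2 p.2
    exact ⟨⟨B, hB⟩, ⟨A', hA'⟩, h1, h3, h4⟩
  · intro p q r l m n hpq hqr hpr h1 h3 h4 h5 h6 h7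
    exact Subtype.ext (h.no_tri s l.2 m.2 n.2 p.2 q.2 r.2 (fun e => hpq (Subtype.ext e)) (fun e => hqr (Subtype.ext e))
      (fun e => hpr (Subtype.ext e)) h1 h3 h4 h5 h6 h7)
  · intro p l
    obtain ⟨A, hA, A', hA', hne, h1, h3⟩ := h.two_lines s p.2
    by_cases e : (⟨A, hA⟩ : LL V h2 UU) = l
    · refine ⟨⟨A', hA'⟩, fun e' => hne ?_, h3⟩
      exact congrArg Subtype.val (e.trans e'.symm)
    · exact ⟨⟨A, hA⟩, e, h1⟩
  · intro p l
    obtain ⟨B, hB, C, hC, hne, h1, h3⟩ := h.A_sub l.2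
    by_cases e : (⟨B, hB⟩ : UU) = p
    · refine ⟨⟨C, hC⟩, fun e' => hne ?_, h3⟩
      exact congrArg Subtype.val (e.trans e'.symm)
    · exact ⟨⟨B, hB⟩, e, h1⟩
  · intro l x hx p hpl
    refine Subtype.ext ?_
    rw [hp]
    exact conj_eq_of_comm fun y hy => h.comm p.2 (hpl hx) hy
  · intro l x hx p m hpl hpm
    refine Subtype.ext ?_
    rw [hl]
    exact conj_eq_of_comm fun y hy => h.comm p.2 (hpl hx) (hpm hy)
  · intro g l x hx
    rw [hl, mem_conj]
    have e : g⁻¹ * (g * x * g⁻¹) * g = x := by group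
    rwa [e]
  · intro p l hI
    exact hI
  · intro p b hb hb1 q hopp hq
    have h1 : MulAut.conj b • (q : Subgroup Y) = q := congrArg Subtype.val hq
    by_cases e : (p : Subgroup Y) = q
    · obtain ⟨A, hA, -, -, -, h3, -⟩ := h.two_lines s p.2
      have h4 : A ≤ (q : Subgroup Y) := e ▸ h3
      exact hopp ⟨A, hA⟩ ⟨h3, h4⟩
    · by_cases hbad : Bad V (p : Subgroup Y) q
      · have h3 := h.le p p.2 q q.2 hbad
        exact hopp ⟨_, ⟨p, p.2, q, q.2, hbad, rfl⟩⟩ ⟨h3.trans inf_le_left, h3.trans inf_le_right⟩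
      · exact hb1 (h.opp p p.2 q q.2 e hbad b hb h1)
  · intro p l m n h1 h3 h4 hlm hln hmn
    have e1 := (h.meet l l.2 m m.2 p p.2 h1 h3 fun e => hlm (Subtype.ext e)).1
    have e2 := (h.meet l l.2 n n.2 p p.2 h1 h4 fun e => hln (Subtype.ext e)).1
    have e3 := (h.meet m m.2 n n.2 p p.2 h3 h4 fun e => hmn (Subtype.ext e)).1
    have := h.finY
    -- `A_l A_m = B`
    have h5 : (l : Subgroup Y) ⊔ m = p := by
      refine eq_of_le_of_card_ge (sup_le h1 h3) ?_
      rw [h.cardB s p.2]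
      have h6 : Function.Injective (fun x : Prod ↥(l : Subgroup Y) ↥(m : Subgroup Y) =>
          (⟨(x.1 : Y) * x.2, mul_mem (mem_sup_left x.1.2) (mem_sup_right x.2.2)⟩ : ↥((l : Subgroup Y) ⊔ m))) := by
        rintro ⟨x, y⟩ ⟨x', y'⟩ hxy
        have h7 : (x : Y) * y = x' * y' := congrArg Subtype.val hxy
        have h8 : (x' : Y)⁻¹ * x = y' * (y : Y)⁻¹ := by
          rw [eq_mul_inv_iff_mul_eq, mul_assoc, h7, inv_mul_cancel_left]
        have h9 : (x' : Y)⁻¹ * x ∈ (l : Subgroup Y) ⊓ m := by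
          refine mem_inf.2 ⟨mul_mem (inv_mem x'.2) x.2, ?_⟩
          rw [h8]
          exact mul_mem y'.2 (inv_mem y.2)
        rw [e1, mem_bot] at h9
        have h10 : x = x' := Subtype.ext (inv_mul_eq_one.1 h9).symm
        subst h10
        exact Prod.ext rfl (Subtype.ext (mul_left_cancel h7))
      have h7 := Nat.card_le_card_of_injective _ h6
      rwa [Nat.card_prod, h.cardA l l.2, h.cardA m m.2] at h7
    obtain ⟨d, hd, hd1⟩ : ∃ d ∈ (n : Subgroup Y), d ≠ 1 := by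
      by_contra hcon
      push Not at hcon
      exact h.A_ne_bot n.2 ((Subgroup.eq_bot_iff_forall _).2 hcon)
    have h8 : d ∈ (m : Subgroup Y) ⊔ l := by
      rw [sup_comm, h5]
      exact h4 hd
    have hnorm : (l : Subgroup Y) ≤ normalizer ((m : Subgroup Y) : Set Y) := h1.trans (h.le_norm_A p.2 h3)
    rw [← SetLike.mem_coe, Subgroup.coe_mul_of_right_le_normalizer_left _ _ hnorm] at h8
    obtain ⟨c, hc, x, hx, hcx⟩ := h8
    have hcx' : c * x = d := hcx
    subst hcx'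
    refine ⟨x, hx, c, hc, ?_, ?_, hd, hd1⟩
    · rintro rfl
      rw [mul_one] at hd hd1
      have h9 : c ∈ (m : Subgroup Y) ⊓ n := ⟨hc, hd⟩
      rw [e3, mem_bot] at h9
      exact hd1 h9
    · rintro rfl
      rw [one_mul] at hd hd1
      have h9 : x ∈ (l : Subgroup Y) ⊓ n := ⟨hx, hd⟩
      rw [e2, mem_bot] at h9
      exact hd1 h9

end Geo

end Cfsg.Agent.Omega.NO1.Lines
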