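import Cfsg.Agent.Omega.NO1.Lines.Base
import Cfsg.Agent.Omega.NO1.Lines.KMem

/-!
# N1-ONE, THEOREM LINES (helper806, #18965), (0) = (f0) of #18985

`NE V C` : the stabiliser of the `E`-point of `C`.

* `Hyp.upe'` : a member in `NE V B` has the `E`-point of `B`; `Hyp.disj` : `F_B ∩ F_C = 0` for different `E`-points;
* `Hyp.nondeg` : `[E_B, s] ≠ 0` for `1 ≠ s ∈ B`;
* `Hyp.dl_bad`, `Hyp.card_bad`, `Hyp.map_bad` : (1) of #18202;
* `Hyp.dl_NE` : (2);
* `Hyp.exists_opp` : (3), some `C` is opposite `B`; **`Hyp.cardF`** : `|F_B| = |K|`;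
* `Hyp.bad_symm`, `Hyp.bad_le`, `Hyp.bad_le'` : `Bad B C → F_B ≤ E_C, F_C ≤ E_B`; `Hyp.opp_one` : otherwise
  `B ∩ NE C = 1`;
* `Hyp.surj_dl`, `Hyp.card_fix` : `[x, B] = F_B`, `|B| = |K| |C_B(x)|` for `x ∈ E_B - F_B`;
* `Hyp.card_B0`, **`Hyp.fix_iff`** : `|B| = |K| |B ∩ NE C|`, `C_B(x) = B ∩ NE C` for `0 ≠ x ∈ F_C`, `Bad B C`.
-/

set_option autoImplicit false
set_option linter.unusedSectionVars false

namespace Cfsg.Agent.Omega.NO1.Lines

open Subgroup
open Cfsg.Agent.Omega.NO1.HE (dl dl_apply dl_one dl_eq_zero dl_comm dl_mul dl_self add_eq_zero' mem_conj)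
open Cfsg.Agent.Omega.NO1.Alpha (FX EX Mem mem_FX mem_EX smul_mem_FX smul_mem_EX dl_conj conj_eq_iff FX_anti)
open scoped Pointwise

universe u

section NE

variable {Y : Type u} [Group Y] (V : Type u) [AddCommGroup V] [DistribMulAction Y V]

/-- the stabiliser of `E_C` -/
def NE (C : Subgroup Y) : Subgroup Y where
  carrier := {y | ∀ v : V, y • v ∈ EX V C ↔ v ∈ EX V C}
  one_mem' := fun v => by rw [one_smul]
  mul_mem' := fun {y z} hy hz v => by rw [mul_smul, hy, hz]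
  inv_mem' := fun {y} hy v => by rw [← hy (y⁻¹ • v), smul_inv_smul]

variable {V}

theorem mem_NE {C : Subgroup Y} {y : Y} : y ∈ NE V C ↔ ∀ v : V, y • v ∈ EX V C ↔ v ∈ EX V C := Iff.rfl

theorem mem_NE_iff {C : Subgroup Y} {y : Y} : y ∈ NE V C ↔ EX V (MulAut.conj y • C) = EX V C := by
  constructor
  · intro h
    ext v
    have h1 := smul_mem_EX (V := V) (B := C) (g := y) (v := y⁻¹ • v)
    rw [smul_inv_smul] at h1
    rw [h1, ← h, smul_inv_smul]
  · intro h v
    rw [← smul_mem_EX (g := y) (v := v), h]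

theorem normalizer_le_NE {C : Subgroup Y} : normalizer (C : Set Y) ≤ NE V C := fun y hy => by
  rw [mem_NE_iff, conj_eq_iff.2 hy]

theorem le_NE {C : Subgroup Y} : C ≤ NE V C := Subgroup.le_normalizer.trans normalizer_le_NE

end NE

/-- two 2-subgroups of `N`: a conjugate of the second generates a 2-group with the first -/
theorem exists_conj_two {Y : Type u} [Group Y] [Finite Y] {N P Q : Subgroup Y} (hP : P ≤ N) (hQ : Q ≤ N)
    (h2P : IsPGroup 2 P) (h2Q : IsPGroup 2 Q) : ∃ n ∈ N, IsPGroup 2 (P ⊔ MulAut.conj n • Q : Subgroup Y) := by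
  have : Fact (Nat.Prime 2) := ⟨Nat.prime_two⟩
  obtain ⟨S, hS⟩ := (h2P.comap_of_injective N.subtype N.subtype_injective).exists_le_sylow
  obtain ⟨R, hR⟩ := (h2Q.comap_of_injective N.subtype N.subtype_injective).exists_le_sylow
  obtain ⟨n, hn⟩ := MulAction.exists_smul_eq N R S
  refine ⟨n, n.2, ?_⟩
  have h1 : P ≤ (S : Subgroup N).map N.subtype := fun x hx => ⟨⟨x, hP hx⟩, hS hx, rfl⟩
  have h3 : MulAut.conj (n : Y) • Q ≤ (S : Subgroup N).map N.subtype := by
    intro x hx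
    rw [mem_conj] at hx
    have h4 : (⟨(n : Y)⁻¹ * x * n, hQ hx⟩ : N) ∈ (R : Subgroup N) := hR hx
    refine ⟨n * ⟨(n : Y)⁻¹ * x * n, hQ hx⟩ * n⁻¹, ?_, ?_⟩
    · have e : (S : Subgroup N) = MulAut.conj n • (R : Subgroup N) := by
        rw [← hn]; rfl
      rw [SetLike.mem_coe, e, mem_conj]
      simpa [mul_assoc] using h4
    · simp [mul_assoc]
  exact (S.isPGroup'.map N.subtype).to_le (sup_le h1 h3)

namespace Hyp

variable {K V Y : Type u} [Field K] [AddCommGroup V] [Module K V] [Group Y] [DistribMulAction Y V]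
  {UU : Set (Subgroup Y)} (h : Hyp K V Y UU) {B C : Subgroup Y} (hB : B ∈ UU) (hC : C ∈ UU)
include h hB

theorem mem' : Mem V (Nat.card K) B := h.mem B hB

theorem smulF {v : V} (hv : v ∈ FX V B) (k : K) : k • v ∈ FX V B := smul_F (h.lin B hB) hv k

theorem smulE {v : V} (hv : v ∈ EX V B) (k : K) : k • v ∈ EX V B := smul_E (h.lin B hB) hv k

theorem dls {b : Y} (hb : b ∈ B) (k : K) (v : V) : dl b (k • v) = k • dl b v := dl_smul (h.lin B hB) hb k v

theorem line' {w : V} (hw : w ∉ EX V B) (v : V) : ∃ k : K, v + k • w ∈ EX V B := by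
  have := h.finK
  exact line (h.mem B hB) (h.lin B hB) h.two hw v

theorem FE : FX V B ≤ EX V B := (h.mem B hB).FE h.two

/-- `F ≠ 0` -/
theorem exists_F : ∃ f ∈ FX V B, f ≠ 0 := by
  obtain ⟨e, he, hf⟩ := (h.mem B hB).ne'
  by_contra hcon
  push Not at hcon
  exact hf fun b hb => (dl_eq_zero h.two).1 (hcon _ (he b hb))

theorem nondeg {s : Y} (hs : s ∈ B) (h1 : s ≠ 1) : ∃ e ∈ EX V B, dl s e ≠ 0 := by
  have := h.finK
  have := h.finV
  have := h.finY
  exact Lines.nondeg (h.mem B hB) (h.lin B hB) h.two h.noff hs h1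

include hC

theorem upe' (hCN : C ≤ NE V B) : EX V C = EX V B := by
  have := h.finY
  obtain ⟨n, hn, hp⟩ := exists_conj_two hCN (le_NE (V := V)) (h.mem C hC).two_pow (h.mem B hB).two_pow
  rw [h.upe C hC _ (h.conj B hB n) hp, mem_NE_iff.1 hn]

theorem fix_NE {x : V} (hx : x ∈ FX V C) (h0 : x ≠ 0) {y : Y} (hy : y • x = x) : y ∈ NE V C :=
  mem_NE_iff.2 (h.bad C hC x hx h0 y hy)

theorem disj (hne : EX V B ≠ EX V C) {x : V} (hx : x ∈ FX V B) (hx' : x ∈ FX V C) : x = 0 := by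
  by_contra h0
  refine hne (h.upe' hB hC fun c hc => ?_).symm
  exact h.fix_NE hC hB hx h0 (hx' c hc)

/-- elements of `B ∩ NE C` are trivial on `V / E_C` -/
theorem triv_NE {c : Y} (hc : c ∈ B) (hcN : c ∈ NE V C) (v : V) : dl c v ∈ EX V C := by
  have := h.finK
  exact triv (h.mem C hC) (h.lin C hC) h.two ((h.mem B hB).sq c hc) (h.lin B hB c hc) (fun v hv => (hcN v).2 hv) v

theorem NE_of_triv {c : Y} (hc : ∀ v : V, dl c v ∈ EX V C) : c ∈ NE V C := fun v => by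
  have h1 := hc v
  rw [dl_apply] at h1
  constructor
  · intro h3
    have h4 := (EX V C).sub_mem h1 h3
    rwa [add_sub_cancel_left] at h4
  · intro h3
    have h4 := (EX V C).sub_mem h1 h3
    rwa [add_sub_cancel_right] at h4

theorem exists_notNE (hne : EX V B ≠ EX V C) : ∃ b ∈ B, b ∉ NE V C := by
  by_contra hcon
  push Not at hcon
  exact hne (h.upe' hC hB hcon)

/-- (1): `[F_C ∩ E_B, B] ≤ F_B ∩ E_C` -/
theorem dl_bad {x : V} (hx : x ∈ FX V C) (hxE : x ∈ EX V B) {b : Y} (hb : b ∈ B) :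
    dl b x ∈ FX V B ∧ dl b x ∈ EX V C := by
  refine ⟨(h.mem B hB).dlF hb hxE, ?_⟩
  by_cases h0 : x = 0
  · rw [h0, map_zero]
    exact (EX V C).zero_mem
  obtain ⟨w, hw⟩ := (h.mem B hB).ne
  obtain ⟨s, hs, hf, hbx⟩ := exists_dl (h.mem B hB) h.two hw hxE
  rw [hbx b hb]
  refine h.triv_NE hB hC hs (h.fix_NE hB hC hx h0 ?_) _
  rw [← dl_eq_zero h.two, hbx s hs]
  exact dl_self h.two ((h.mem B hB).sq s hs) _

/-- (1): injectivity -/
theorem inj_bad {b : Y} (hbN : b ∉ NE V C) {x : V} (hx : x ∈ FX V C) (h1 : dl b x = 0) : x = 0 := by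
  by_contra h0
  exact hbN (h.fix_NE hB hC hx h0 ((dl_eq_zero h.two).1 h1))

theorem card_le (hne : EX V B ≠ EX V C) :
    Nat.card (FX V C ⊓ EX V B : AddSubgroup V) ≤ Nat.card (FX V B ⊓ EX V C : AddSubgroup V) := by
  have := h.finV
  obtain ⟨b, hb, hbN⟩ := h.exists_notNE hB hC hne
  let f : (FX V C ⊓ EX V B : AddSubgroup V) → (FX V B ⊓ EX V C : AddSubgroup V) :=
    fun x => ⟨dl b x.1, AddSubgroup.mem_inf.2 (h.dl_bad hB hC x.2.1 x.2.2 hb)⟩
  refine Nat.card_le_card_of_injective f ?_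
  rintro ⟨x, hx⟩ ⟨y, hy⟩ hxy
  have h1 : dl b x = dl b y := congrArg Subtype.val hxy
  have h3 : x - y = 0 := h.inj_bad hB hC hbN ((FX V C).sub_mem hx.1 hy.1) (by rw [map_sub, h1, sub_self])
  exact Subtype.ext (sub_eq_zero.1 h3)

/-- (1): `|F_C ∩ E_B| = |F_B ∩ E_C|` -/
theorem card_bad (hne : EX V B ≠ EX V C) :
    Nat.card (FX V C ⊓ EX V B : AddSubgroup V) = Nat.card (FX V B ⊓ EX V C : AddSubgroup V) :=
  le_antisymm (h.card_le hB hC hne) (h.card_le hC hB hne.symm)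

/-- (1): `[F_C ∩ E_B, b] = F_B ∩ E_C` for `b ∈ B - NE C` -/
theorem map_bad (hne : EX V B ≠ EX V C) {b : Y} (hb : b ∈ B) (hbN : b ∉ NE V C) {y : V} (hy : y ∈ FX V B)
    (hyE : y ∈ EX V C) : ∃ x ∈ FX V C, x ∈ EX V B ∧ dl b x = y := by
  have := h.finV
  let f : (FX V C ⊓ EX V B : AddSubgroup V) → (FX V B ⊓ EX V C : AddSubgroup V) :=
    fun x => ⟨dl b x.1, AddSubgroup.mem_inf.2 (h.dl_bad hB hC x.2.1 x.2.2 hb)⟩
  have hinj : Function.Injective f := by
    rintro ⟨x, hx⟩ ⟨y, hy⟩ hxy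
    have h1 : dl b x = dl b y := congrArg Subtype.val hxy
    have h3 : x - y = 0 := h.inj_bad hB hC hbN ((FX V C).sub_mem hx.1 hy.1) (by rw [map_sub, h1, sub_self])
    exact Subtype.ext (sub_eq_zero.1 h3)
  obtain ⟨⟨x, hx⟩, hxy⟩ := (hinj.bijective_of_nat_card_le (h.card_bad hB hC hne).ge).2
    ⟨y, AddSubgroup.mem_inf.2 ⟨hy, hyE⟩⟩
  exact ⟨x, hx.1, hx.2, congrArg Subtype.val hxy⟩

theorem bad_symm (hb : Bad V B C) : Bad V C B := by
  refine ⟨hb.1.symm, ?_⟩
  obtain ⟨x, hx, h0, hxE⟩ := hb.2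
  obtain ⟨b, hbB, hbN⟩ := h.exists_notNE hB hC hb.1
  have h1 := h.dl_bad hB hC hx hxE hbB
  exact ⟨dl b x, h1.1, fun h3 => h0 (h.inj_bad hB hC hbN hx h3), h1.2⟩

/-- (2): `[E_B, c] ≤ F_B ∩ E_C` for `c ∈ B ∩ NE C` -/
theorem dl_NE {c : Y} (hc : c ∈ B) (hcN : c ∈ NE V C) {e : V} (he : e ∈ EX V B) :
    dl c e ∈ FX V B ∧ dl c e ∈ EX V C :=
  ⟨(h.mem B hB).dlF hc he, h.triv_NE hB hC hc hcN e⟩

/-- (2): opposite members -/
theorem opp_one (hne : EX V B ≠ EX V C) (ho : ¬ Bad V B C) {c : Y} (hc : c ∈ B) (hcN : c ∈ NE V C) : c = 1 := by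
  by_contra h1
  obtain ⟨e, he, h0⟩ := h.nondeg hB hc h1
  have h3 := h.dl_NE hB hC hc hcN he
  exact ho (h.bad_symm hC hB ⟨hne.symm, _, h3.1, h0, h3.2⟩)

omit hC

/-- (3): some `C` is opposite `B` -/
theorem exists_opp : ∃ C ∈ UU, EX V B ≠ EX V C ∧ ∀ x ∈ FX V B, x ∈ EX V C → x = 0 := by
  have := h.finV
  have := h.finY
  classical
  -- some `C` has another `E`-point
  obtain ⟨f, hf, hf0⟩ := h.exists_F hB
  have hS : ∃ C ∈ UU, EX V B ≠ EX V C := by
    by_contra hcon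
    push Not at hcon
    exact hf0 (h.inter f fun C hC => hcon C hC ▸ h.FE hB hf)
  -- minimal `h_C`
  let S : Set (Subgroup Y) := {C | C ∈ UU ∧ EX V B ≠ EX V C}
  obtain ⟨C, ⟨hC, hne⟩, hmin⟩ := Set.exists_min_image S
    (fun C => Nat.card (FX V B ⊓ EX V C : AddSubgroup V)) (Set.toFinite S)
    (by obtain ⟨C, hC, hne⟩ := hS; exact ⟨C, hC, hne⟩)
  refine ⟨C, hC, hne, fun x hx hxE => ?_⟩
  by_contra hx0
  -- `1 ≠ c ∈ B ∩ NE C`
  obtain ⟨c, hc, hcN, hc1⟩ : ∃ c ∈ B, c ∈ NE V C ∧ c ≠ 1 := by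
    obtain ⟨-, x', hx', hx0', hxE'⟩ := h.bad_symm hC hB ⟨hne.symm, x, hx, hx0, hxE⟩
    obtain ⟨w, hw⟩ := (h.mem B hB).ne
    obtain ⟨s, hs, hf, hbx⟩ := exists_dl (h.mem B hB) h.two hw hxE'
    refine ⟨s, hs, h.fix_NE hB hC hx' hx0' ?_, ?_⟩
    · rw [← dl_eq_zero h.two, hbx s hs]
      exact dl_self h.two ((h.mem B hB).sq s hs) _
    · rintro rfl
      rw [dl_one h.two, zero_add] at hf
      exact hx0' (h.disj hB hC hne hf hx')
  obtain ⟨e, he, he0⟩ := h.nondeg hB hc hc1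
  -- `c ∈ NE D` for all `D`
  have key : ∀ D ∈ UU, EX V B ≠ EX V D → c ∈ NE V D := by
    -- first: `c ∈ NE D` or `h_D = h_C`
    have k1 : ∀ D ∈ UU, EX V B ≠ EX V D → c ∉ NE V D →
        (FX V B ⊓ EX V D : AddSubgroup V) = FX V B ⊓ EX V C := by
      intro D hD hne' hcD
      have h1 : (FX V B ⊓ EX V D : AddSubgroup V) ≤ FX V B ⊓ EX V C := by
        rintro y ⟨hy, hyD⟩
        obtain ⟨z, hz, hzE, rfl⟩ := h.map_bad hB hD hne' hc hcD hy hyD
        exact h.dl_NE hB hC hc hcN hzE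
      exact AddSubgroup.eq_of_le_of_card_ge h1 (hmin D ⟨hD, hne'⟩)
    -- some `D'` with `x ∉ h_D'`
    obtain ⟨D', hD', hxD⟩ : ∃ D ∈ UU, x ∉ EX V D := by
      by_contra hcon
      push Not at hcon
      exact hx0 (h.inter x hcon)
    have hxC : x ∈ (FX V B ⊓ EX V C : AddSubgroup V) := ⟨hx, hxE⟩
    have hcD' : c ∈ NE V D' := by
      by_contra hcD'
      have h1 := k1 D' hD' (fun e => hxD (e ▸ h.FE hB hx)) hcD'
      rw [← h1] at hxC
      exact hxD hxC.2
    intro D hD hneD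
    by_contra hcD
    -- `h_D ≤ [E, c] ≤ h_C ∩ h_D' < h_C`
    have h1 : (FX V B ⊓ EX V D : AddSubgroup V) ≤ FX V B ⊓ EX V D' := by
      rintro y ⟨hy, hyD⟩
      obtain ⟨z, hz, hzE, rfl⟩ := h.map_bad hB hD hneD hc hcD hy hyD
      exact h.dl_NE hB hD' hc hcD' hzE
    have h3 := k1 D hD hneD hcD
    rw [h3] at h1
    exact hxD (h1 hxC).2
  exact he0 (h.inter _ fun D hD => by
    by_cases h3 : EX V B = EX V D
    · rw [← h3]
      exact h.FE hB ((h.mem B hB).dlF hc he)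
    · exact (h.dl_NE hB hD hc (key D hD h3) he).2)

/-- **`|F| = |K|`** -/
theorem cardF : Nat.card (FX V B) = Nat.card K := by
  have := h.finV
  have := h.finK
  have hlin := h.lin B hB
  obtain ⟨C, hC, hne, ho⟩ := h.exists_opp hB
  obtain ⟨f, hf, hf0⟩ := h.exists_F hB
  apply le_antisymm
  · -- `F_B` embeds into `V / E_C`
    let g : FX V B → V ⧸ EX V C := fun x => QuotientAddGroup.mk x.1
    have hg : Function.Injective g := by
      rintro ⟨x, hx⟩ ⟨y, hy⟩ hxy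
      have h1 : -x + y ∈ EX V C := QuotientAddGroup.eq.1 hxy
      have h3 := ho _ ((FX V B).add_mem ((FX V B).neg_mem hx) hy) h1
      exact Subtype.ext (neg_add_eq_zero.1 h3)
    have h1 := Nat.card_le_card_of_injective g hg
    have h3 : Nat.card (V ⧸ EX V C) = Nat.card K := (h.mem C hC).ind
    rwa [h3] at h1
  · let g : K → FX V B := fun k => ⟨k • f, h.smulF hB hf k⟩
    refine Nat.card_le_card_of_injective g ?_
    intro k l hkl
    have h1 : k • f = l • f := congrArg Subtype.val hkl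
    exact smul_left_injective K hf0 h1

/-- `F = K f` -/
theorem F_eq {f : V} (hf : f ∈ FX V B) (hf0 : f ≠ 0) {x : V} (hx : x ∈ FX V B) : ∃ k : K, x = k • f := by
  have := h.finV
  have := h.finK
  let g : K → FX V B := fun k => ⟨k • f, h.smulF hB hf k⟩
  have hg : Function.Injective g := by
    intro k l hkl
    have h1 : k • f = l • f := congrArg Subtype.val hkl
    exact smul_left_injective K hf0 h1
  obtain ⟨k, hk⟩ := (hg.bijective_of_nat_card_le (h.cardF hB).le).2 ⟨x, hx⟩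
  exact ⟨k, (congrArg Subtype.val hk).symm⟩

/-- `[x, B] = F_B` -/
theorem surj_dl {x : V} (hx : x ∈ EX V B) (hx' : x ∉ FX V B) {f : V} (hf : f ∈ FX V B) :
    ∃ b ∈ B, dl b x = f := by
  have := h.finK
  obtain ⟨w, hw⟩ := (h.mem B hB).ne
  obtain ⟨s, hs, hsf, hbx⟩ := exists_dl (h.mem B hB) h.two hw hx
  have hs1 : s ≠ 1 := by
    rintro rfl
    rw [dl_one h.two, zero_add] at hsf
    exact hx' hsf
  obtain ⟨e, he, he0⟩ := h.nondeg hB hs hs1
  obtain ⟨k, rfl⟩ := h.F_eq hB ((h.mem B hB).dlF hs he) he0 hf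
  obtain ⟨b, hb, hbf⟩ := (h.mem B hB).surj w hw (k • e) (h.smulE hB he k)
  refine ⟨b, hb, ?_⟩
  rw [hbx b hb]
  have h1 := (h.mem B hB).dl0 h.two hs hbf
  rw [map_add, h.dls hB hs] at h1
  exact (add_eq_zero' h.two).1 h1

/-- `|B| = |K| |C_B(x)|` -/
theorem card_fix {x : V} (hx : x ∈ EX V B) (hx' : x ∉ FX V B) :
    Nat.card B = Nat.card K * Nat.card (B ⊓ MulAction.stabilizer Y x : Subgroup Y) := by
  have := h.finV
  have := h.finY
  let g : B →* Multiplicative (FX V B) :=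
    { toFun := fun b => Multiplicative.ofAdd ⟨dl b.1 x, (h.mem B hB).dlF b.2 hx⟩
      map_one' := by
        apply Multiplicative.toAdd.injective
        exact Subtype.ext (dl_one h.two x)
      map_mul' := fun b c => by
        apply Multiplicative.toAdd.injective
        refine Subtype.ext ?_
        change dl (b.1 * c.1) x = dl b.1 x + dl c.1 x
        rw [dl_mul h.two, (h.mem B hB).dl0 h.two b.2 ((h.mem B hB).dlF c.2 hx), add_zero] }
  have hg : Function.Surjective g := by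
    intro f
    obtain ⟨b, hb, hbf⟩ := h.surj_dl hB hx hx' f.toAdd.2
    refine ⟨⟨b, hb⟩, ?_⟩
    apply Multiplicative.toAdd.injective
    exact Subtype.ext hbf
  have h1 : g.ker = (B ⊓ MulAction.stabilizer Y x : Subgroup Y).subgroupOf B := by
    ext b
    rw [MonoidHom.mem_ker, Subgroup.mem_subgroupOf]
    constructor
    · intro h3
      have h4 : dl b.1 x = 0 := congrArg (fun z => (Multiplicative.toAdd z).1) h3
      exact ⟨b.2, (dl_eq_zero h.two).1 h4⟩
    · rintro ⟨-, h3⟩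
      apply Multiplicative.toAdd.injective
      exact Subtype.ext ((dl_eq_zero h.two).2 h3)
  have h3 := Subgroup.index_ker g
  rw [MonoidHom.range_eq_top.2 hg, Nat.card_congr Subgroup.topEquiv.toEquiv] at h3
  have h4 := Subgroup.index_mul_card g.ker
  rw [h3, h1, Nat.card_congr (Subgroup.subgroupOfEquivOfLe (inf_le_left)).toEquiv] at h4
  rw [← h4]
  congr 1
  exact h.cardF hB

include hC

/-- `Bad B C → F_C ≤ E_B` -/
theorem bad_le (hb : Bad V B C) : FX V C ≤ EX V B := by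
  obtain ⟨x, hx, h0, hxE⟩ := hb.2
  intro y hy
  obtain ⟨k, rfl⟩ := h.F_eq hC hx h0 hy
  exact h.smulE hB hxE k

theorem bad_le' (hb : Bad V B C) : FX V B ≤ EX V C := h.bad_le hC hB (h.bad_symm hB hC hb)

/-- `|B| = |K| |B ∩ NE C|` -/
theorem card_B0 (hb : Bad V B C) : Nat.card B = Nat.card K * Nat.card (B ⊓ NE V C : Subgroup Y) := by
  have := h.finV
  have := h.finY
  have := h.finK
  obtain ⟨w, hw⟩ := (h.mem B hB).ne
  -- `b ↦ [w, b]` mod `E_C`
  let g : B →* Multiplicative (V ⧸ EX V C) :=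
    { toFun := fun b => Multiplicative.ofAdd (QuotientAddGroup.mk (dl b.1 w))
      map_one' := by
        apply Multiplicative.toAdd.injective
        change (QuotientAddGroup.mk (dl (1 : Y) w) : V ⧸ EX V C) = 0
        rw [dl_one h.two, QuotientAddGroup.mk_zero]
      map_mul' := fun b c => by
        apply Multiplicative.toAdd.injective
        change (QuotientAddGroup.mk (dl (b.1 * c.1) w) : V ⧸ EX V C)
          = QuotientAddGroup.mk (dl b.1 w) + QuotientAddGroup.mk (dl c.1 w)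
        rw [← QuotientAddGroup.mk_add, dl_mul h.two]
        refine QuotientAddGroup.eq.2 ?_
        have h1 : dl b.1 (dl c.1 w) ∈ EX V C :=
          h.bad_le' hB hC hb ((h.mem B hB).dlF b.2 ((h.mem B hB).VB _ c.2 w))
        have h3 : -(dl b.1 w + dl c.1 w + dl b.1 (dl c.1 w)) + (dl b.1 w + dl c.1 w)
            = -dl b.1 (dl c.1 w) := by abel
        rw [h3]
        exact (EX V C).neg_mem h1 }
  have hg : Function.Surjective g := by
    intro q
    obtain ⟨v, hv⟩ := QuotientAddGroup.mk_surjective q.toAdd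
    -- `v = e` mod `E_C` with `e ∈ E_B`
    obtain ⟨e, he, hec⟩ : ∃ e ∈ EX V B, e ∉ EX V C := by
      by_contra hcon
      push Not at hcon
      have h1 : EX V B ≤ EX V C := hcon
      have h3 : (EX V B).index = (EX V C).index := by rw [(h.mem B hB).ind, (h.mem C hC).ind]
      exact hb.1 (AddSubgroup.eq_of_le_of_card_ge h1 (by
        have h4 := AddSubgroup.index_mul_card (EX V B)
        have h5 := AddSubgroup.index_mul_card (EX V C)
        rw [h3] at h4
        have h6 : (EX V C).index ≠ 0 := AddSubgroup.index_ne_zero_of_finite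
        exact (Nat.eq_of_mul_eq_mul_left (Nat.pos_of_ne_zero h6) (h4.trans h5.symm)).ge))
    obtain ⟨k, hk⟩ := h.line' hC hec v
    obtain ⟨b, hbB, hbf⟩ := (h.mem B hB).surj w hw (k • e) (h.smulE hB he k)
    refine ⟨⟨b, hbB⟩, ?_⟩
    apply Multiplicative.toAdd.injective
    change (QuotientAddGroup.mk (dl b w) : V ⧸ EX V C) = q.toAdd
    rw [← hv]
    refine QuotientAddGroup.eq.2 ?_
    have h1 := h.bad_le' hB hC hb hbf
    have h3 := (EX V C).sub_mem hk h1
    have h4 : -dl b w + v = v + k • e - (dl b w + k • e) := by abel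
    rwa [h4]
  have h1 : g.ker = (B ⊓ NE V C : Subgroup Y).subgroupOf B := by
    ext b
    rw [MonoidHom.mem_ker, Subgroup.mem_subgroupOf]
    constructor
    · intro h3
      have h4 : (QuotientAddGroup.mk (dl b.1 w) : V ⧸ EX V C) = QuotientAddGroup.mk 0 :=
        congrArg Multiplicative.toAdd h3
      have h5 : dl b.1 w ∈ EX V C := by
        have h6 := QuotientAddGroup.eq.1 h4
        rw [add_zero] at h6
        exact neg_mem_iff.1 h6
      refine ⟨b.2, h.NE_of_triv hB hC fun v => ?_⟩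
      obtain ⟨k, hk⟩ := h.line' hB hw v
      have h6 : dl b.1 v = dl b.1 (v + k • w) - k • dl b.1 w := by
        rw [map_add, h.dls hB b.2, add_sub_cancel_right]
      rw [h6]
      exact (EX V C).sub_mem (h.bad_le' hB hC hb ((h.mem B hB).dlF b.2 hk)) (h.smulE hC h5 k)
    · rintro ⟨-, h3⟩
      apply Multiplicative.toAdd.injective
      change (QuotientAddGroup.mk (dl b.1 w) : V ⧸ EX V C) = QuotientAddGroup.mk 0
      refine QuotientAddGroup.eq.2 ?_
      rw [add_zero]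
      exact (EX V C).neg_mem (h.triv_NE hB hC b.2 h3 w)
  have h3 := Subgroup.index_ker g
  rw [MonoidHom.range_eq_top.2 hg, Nat.card_congr Subgroup.topEquiv.toEquiv] at h3
  have h4 := Subgroup.index_mul_card g.ker
  rw [h3, h1, Nat.card_congr (Subgroup.subgroupOfEquivOfLe (inf_le_left)).toEquiv] at h4
  rw [← h4]
  congr 1
  exact (h.mem C hC).ind

/-- **`C_B(x) = B ∩ NE C`** for `0 ≠ x ∈ F_C`, `Bad B C` -/
theorem fix_eq (hb : Bad V B C) {x : V} (hx : x ∈ FX V C) (h0 : x ≠ 0) :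
    (B ⊓ MulAction.stabilizer Y x : Subgroup Y) = B ⊓ NE V C := by
  have := h.finY
  have := h.finK
  have hxB : x ∉ FX V B := fun h1 => h0 (h.disj hB hC hb.1 h1 hx)
  refine Subgroup.eq_of_le_of_card_ge (fun y hy => ⟨hy.1, h.fix_NE hB hC hx h0 hy.2⟩) ?_
  have h1 := h.card_fix hB (h.bad_le hB hC hb hx) hxB
  have h3 := h.card_B0 hB hC hb
  rw [h1] at h3
  exact (Nat.eq_of_mul_eq_mul_left Nat.card_pos h3).ge

theorem fix_iff (hb : Bad V B C) {x : V} (hx : x ∈ FX V C) (h0 : x ≠ 0) {b : Y} (hbB : b ∈ B) :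
    b • x = x ↔ b ∈ NE V C := by
  have h1 := h.fix_eq hB hC hb hx h0
  constructor
  · intro h3
    have h4 : b ∈ (B ⊓ MulAction.stabilizer Y x : Subgroup Y) := ⟨hbB, h3⟩
    rw [h1] at h4
    exact h4.2
  · intro h3
    have h4 : b ∈ (B ⊓ NE V C : Subgroup Y) := ⟨hbB, h3⟩
    rw [← h1] at h4
    exact h4.2

end Hyp

end Cfsg.Agent.Omega.NO1.Lines
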